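import Cfsg.Agent.Lib.VecStab.Table

/-!
Colourings of a primitive system of imprimitivity give vectors with short stabilizers.
-/

set_option autoImplicit false
set_option linter.style.haveILetI false
set_option linter.unusedSectionVars false

namespace CfsgLib.VecStab

open MulAction CfsgLib.OddBase
open scoped commutatorElement

universe u

section Defs
variable (A V : Type u) [Group A] [AddCommGroup V] [DistribMulAction A V]

/-- Five inequivalent vectors with short stabilizers. -/
def Good : Prop :=
  ∃ v : Fin 5 → V, (∀ i j (a : A), a • v i = v j → i = j) ∧ ∀ i, Len V 9 (stabilizer A (v i))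

/-- Two inequivalent non-zero vectors with shorter stabilizers, in a group of bounded length. -/
def Mid : Prop :=
  Len V 8 (⊤ : Subgroup A) ∧ ∃ w₁ w₂ : V, w₁ ≠ 0 ∧ w₂ ≠ 0 ∧ (∀ a : A, a • w₁ ≠ w₂) ∧
    Len V 7 (stabilizer A w₁) ∧ Len V 7 (stabilizer A w₂)

/-- One of the three kinds. -/
def Kind : Prop := Good A V ∨ Len V 6 (⊤ : Subgroup A) ∨ Mid A V

end Defs

/-- Segments of an initial interval. -/
def seg {α : Type*} {m : ℕ} (s t : ℕ) (p q r : α) (x : Fin m) : α :=
  if (x : ℕ) < s then p else if (x : ℕ) < s + t then q else r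

theorem card_fin_Ico {m lo hi : ℕ} (h : hi ≤ m) : Nat.card {x : Fin m // lo ≤ (x : ℕ) ∧ (x : ℕ) < hi} = hi - lo := by
  refine (Nat.card_congr (β := Fin (hi - lo))
    ⟨fun x => ⟨(x.1 : ℕ) - lo, by omega⟩, fun y => ⟨⟨lo + y, by omega⟩, by simp only; omega⟩,
      fun x => ?_, fun y => ?_⟩).trans (Nat.card_fin _)
  · apply Subtype.ext
    apply Fin.ext
    simp only
    omega
  · apply Fin.ext
    simp

theorem card_seg {α ι : Type*} [DecidableEq α] [Finite ι] {m : ℕ} (e : ι ≃ Fin m) {s t : ℕ} (h : s + t ≤ m)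
    (p q r j : α) : Nat.card {f : ι // seg s t p q r (e f) = j} =
      (if p = j then s else 0) + (if q = j then t else 0) + (if r = j then m - (s + t) else 0) := by
  classical
  rw [Nat.card_congr (e.subtypeEquiv (q := fun x => seg s t p q r x = j) fun f => Iff.rfl)]
  have key : ∀ lo hi, hi ≤ m → ((Finset.univ : Finset (Fin m)).filter fun x : Fin m => lo ≤ (x : ℕ) ∧ (x : ℕ) < hi).card = hi - lo :=
    fun lo hi hh => by rw [← card_fin_Ico (lo := lo) hh, Nat.card_eq_fintype_card, Fintype.card_subtype]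
  rw [Nat.card_eq_fintype_card, Fintype.card_subtype, Finset.card_filter,
    ← Finset.sum_congr rfl (fun (x : Fin m) _ => show ((if p = j then if 0 ≤ (x : ℕ) ∧ (x : ℕ) < s then 1 else 0 else 0) +
      (if q = j then if s ≤ (x : ℕ) ∧ (x : ℕ) < s + t then 1 else 0 else 0) +
      (if r = j then if s + t ≤ (x : ℕ) ∧ (x : ℕ) < m then 1 else 0 else 0) : ℕ) =
        if seg s t p q r x = j then 1 else 0 by
      have := x.2
      unfold seg
      split_ifs <;> first | omega | simp_all),
    Finset.sum_add_distrib, Finset.sum_add_distrib]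
  congr 1
  · congr 1
    · split_ifs with h1
      · rw [← Finset.card_filter, key 0 s (by omega), Nat.sub_zero]
      · simp
    · split_ifs with h1
      · rw [← Finset.card_filter, key s (s + t) h, Nat.add_sub_cancel_left]
      · simp
  · split_ifs with h1
    · rw [← Finset.card_filter, key (s + t) m le_rfl]
    · simp

/-- Positions with prescribed points first. -/
theorem exists_positions {ι : Type*} [Finite ι] (s : Fin 4 → ι) (h : 4 ≤ Nat.card ι) :
    ∃ e : ι ≃ Fin (Nat.card ι), ∀ k, (e (s k) : ℕ) < 4 := by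
  classical
  let g : ι ≃ Fin (Nat.card ι) := Finite.equivFin ι
  obtain ⟨T, hT, -, hT4⟩ := Finset.exists_subsuperset_card_eq (s := Finset.univ.image fun k => g (s k)) (n := 4)
    (Finset.subset_univ _) (Finset.card_image_le.trans (by simp)) (by simpa using h)
  let σ : {x // x ∈ T} ≃ {x : Fin (Nat.card ι) // (x : ℕ) < 4} := Fintype.equivOfCardEq (by
    rw [Fintype.card_coe, hT4, ← Nat.card_eq_fintype_card,
      Nat.card_congr (Equiv.subtypeEquivRight (q := fun x : Fin (Nat.card ι) => 0 ≤ (x : ℕ) ∧ (x : ℕ) < 4) (by simp)),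
      card_fin_Ico h])
  refine ⟨g.trans σ.extendSubtype, fun k => ?_⟩
  exact σ.extendSubtype_mem _ (hT (Finset.mem_image_of_mem _ (Finset.mem_univ k)))

section Step
attribute [-simp] Nat.card_eq_fintype_card

variable {A V ι : Type u} [Group A] [Finite A] [AddCommGroup V] [Finite V] [DistribMulAction A V]
  [MulAction A ι] [Fintype ι] [IsPretransitive A ι] (S : Sys A V ι) (i₀ : ι)

/-- Points of one colour are permuted. -/
theorem fix_class [Group.IsSolvable A] {k : Type*} (c : ι → k) {K : Subgroup A}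
    (hK : ∀ a ∈ K, ∀ f, c (a • f) = c f) {n D : ℕ} (hP : PermLe.{u} n D) {j : k}
    (hn : Nat.card {f // c f = j} ≤ n) {a : A} (ha : a ∈ ds K D) {f : ι} (hf : c f = j) : a • f = f := by
  let p : SubMulAction K ι := ⟨{g | c g = j}, fun b {g} (hg : c g = j) => (hK b b.2 g).trans hg⟩
  have hmem : a ∈ K := ds_le _ _ ha
  have h1 := ds_map_sub le_rfl (MonoidHom.id K) ⊤ (fun _ _ => trivial) D (a := ⟨a, hmem⟩) ha
  exact congrArg Subtype.val (hP K p inferInstance hn (⟨a, hmem⟩ : K) h1 ⟨f, hf⟩)

theorem colour_stab {k : Type*} (w : k → S.blk i₀)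
    (hw : letI := S.act i₀; ∀ i j (h : stabilizer A i₀), h • w i = w j → i = j) (c : ι → k)
    {a : A} (ha : a ∈ stabilizer A (S.glue i₀ (w ∘ c))) (f : ι) : c (a • f) = c f :=
  S.colour_eq i₀ w hw ha f

theorem colour_count {k : Type*} (w : k → S.blk i₀)
    (hw : letI := S.act i₀; ∀ i j (h : stabilizer A i₀), h • w i = w j → i = j) {c c' : ι → k} {a : A}
    (h : a • S.glue i₀ (w ∘ c) = S.glue i₀ (w ∘ c')) (j : k) :
    Nat.card {f // c f = j} = Nat.card {f // c' f = j} :=
  Nat.card_congr ((MulAction.toPerm a).subtypeEquiv fun f => by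
    rw [MulAction.toPerm_apply, S.colour_eq i₀ w hw h f])

/-- Colourings with different counts and short stabilizers. -/
theorem good_of_counts {k : Type*} (w : k → S.blk i₀)
    (hw : letI := S.act i₀; ∀ i j (h : stabilizer A i₀), h • w i = w j → i = j) (c : Fin 5 → ι → k)
    (hne : ∀ i i', (∀ j, Nat.card {f // c i f = j} = Nat.card {f // c i' f = j}) → i = i')
    (hlen : ∀ i, Len V 9 (stabilizer A (S.glue i₀ (w ∘ c i)))) : Good A V :=
  ⟨fun i => S.glue i₀ (w ∘ c i), fun i i' _ h => hne i i' (colour_count S i₀ w hw h), hlen⟩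

/-- Costs by colour. -/
theorem len_of_colours {k : Type*} (w : k → S.blk i₀) (cost : k → ℕ)
    (hcost : letI := S.act i₀; ∀ j, Len (S.blk i₀) (cost j) (stabilizer (stabilizer A i₀) (w j)))
    {D : ℕ} (c : ι → k) (hfix : ∀ f, ∃ n, n + cost (c f) ≤ D ∧
      ∀ a ∈ ds (stabilizer A (S.glue i₀ (w ∘ c))) n, a • f = f) :
    Len V D (stabilizer A (S.glue i₀ (w ∘ c))) :=
  S.len_stab i₀ _ fun f => by
    obtain ⟨n, hn, hf⟩ := hfix f
    exact ⟨n, cost (c f), hn, hf, hcost (c f)⟩

/-- Five colours with trivially acting stabilizer. -/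
theorem good_of_good [Group.IsSolvable A] (hW : letI := S.act i₀; Good (stabilizer A i₀) (S.blk i₀)) :
    Good A V := by
  letI := S.act i₀
  obtain ⟨w, hw, hlen⟩ := hW
  haveI : Nonempty ι := ⟨i₀⟩
  obtain ⟨c₀, hc₀⟩ := CfsgLib.BaseThree.coloured_of_IH (CfsgLib.BaseThree.ih3_all (Nat.card A)) _ A ι rfl le_rfl
    inferInstance
  obtain ⟨σ, hσ⟩ := CfsgLib.BaseThree.recolour (H := A) (p := ι) inferInstance c₀
  refine ⟨fun i => S.glue i₀ (w ∘ (σ i ∘ c₀)), fun i j a h => ?_, fun i => ?_⟩
  · exact hσ i j a fun f => (S.colour_eq i₀ w hw h f).symm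
  · refine len_of_colours S i₀ w (fun _ => 9) hlen _ fun f => ⟨0, le_rfl, fun a ha => hc₀ a (fun g => ?_) f⟩
    exact (σ i).injective (colour_stab S i₀ w hw _ ha g)

/-- Two colours, when the block module has short length. -/
theorem kind_of_few [Group.IsSolvable A] [Nontrivial ι] (hP : PrimLike A ι) (hirr : Irr A V)
    (hW : letI := S.act i₀; Len (S.blk i₀) 6 (⊤ : Subgroup (stabilizer A i₀))) : Kind A V := by
  classical
  letI := S.act i₀
  obtain ⟨u, hu⟩ := (S.blk_irr hirr i₀).1
  let w : Bool → S.blk i₀ := fun b => if b then u else 0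
  have hw : ∀ i j (h : stabilizer A i₀), h • w i = w j → i = j := by
    intro i j h
    cases i <;> cases j <;> simp only [w, Bool.false_eq_true, if_true, if_false, smul_zero, imp_self]
    · exact fun e => absurd e.symm hu
    · exact fun e => absurd ((smul_eq_zero_iff_eq h).mp e) hu
    · intro; trivial
  have hcost : ∀ j, Len (S.blk i₀) 6 (stabilizer (stabilizer A i₀) (w j)) := fun j => hW.mono le_top le_rfl
  have hm2 : 2 ≤ Nat.card ι := Finite.one_lt_card
  obtain ⟨⟨s, hs⟩, hprim⟩ := prim_data hP
  have good : ∀ (e : ι ≃ Fin (Nat.card ι)) (z : Fin 5 → ℕ) (b : Fin 5 → Bool),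
      (∀ i, z i ≤ Nat.card ι) → (∀ i i', (if b i then z i else Nat.card ι - z i) =
        (if b i' then z i' else Nat.card ι - z i') → i = i') →
      (∀ i, ∀ a ∈ ds (stabilizer A (S.glue i₀ (w ∘ fun f => seg (z i) 0 (b i) (b i) (!b i) (e f)))) 3,
        ∀ f : ι, a • f = f) → Good A V := by
    intro e z b hz hinj hfix
    refine good_of_counts S i₀ w hw (fun i f => seg (z i) 0 (b i) (b i) (!b i) (e f))
      (fun i i' h => hinj i i' ?_) fun i => len_of_colours S i₀ w (fun _ => 6) hcost _
        fun f => ⟨3, le_rfl, fun a ha => hfix i a ha f⟩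
    have h1 := h true
    rw [card_seg e (by simpa using hz i), card_seg e (by simpa using hz i')] at h1
    generalize b i = p at h1 ⊢
    generalize b i' = p' at h1 ⊢
    cases p <;> cases p' <;> simpa using h1
  have hglobal : ∀ {n}, Len ι n (⊤ : Subgroup A) → n ≤ 3 → ∀ (K : Subgroup A), ∀ a ∈ ds K 3, ∀ f : ι, a • f = f :=
    fun h hn K a ha f => (h.mono le_top hn) a ha f
  rcases (show Nat.card ι ≤ 3 ∨ (4 ≤ Nat.card ι ∧ Nat.card ι ≤ 7) ∨ Nat.card ι = 11 ∨
    (8 ≤ Nat.card ι ∧ Nat.card ι ≠ 11) by omega) with h3 | h7 | h11 | h8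
  · refine Or.inr (Or.inr ⟨?_, ?_⟩)
    · exact S.len_top i₀ (permLe_three A ι inferInstance h3) hW
    let e := Finite.equivFin ι
    let c : ℕ → ι → Bool := fun z f => seg z 0 true true false (e f)
    have hcnt : ∀ z, z ≤ Nat.card ι → Nat.card {f // c z f = true} = z ∧
        Nat.card {f // c z f = false} = Nat.card ι - z := fun z hz => by
      constructor <;> rw [card_seg e (by omega)] <;> simp
    have hlen : ∀ z, 1 ≤ z → z ≤ 2 → z ≤ Nat.card ι → Len V 7 (stabilizer A (S.glue i₀ (w ∘ c z))) := by
      intro z hz1 hz2 hz3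
      refine len_of_colours S i₀ w (fun _ => 6) hcost _ fun f => ⟨1, le_rfl, fun a ha => ?_⟩
      refine fix_class (c z) (fun b hb g => colour_stab S i₀ w hw _ hb g) permLe_two (j := c z f) ?_ ha rfl
      cases c z f
      · rw [(hcnt z hz3).2]; omega
      · rw [(hcnt z hz3).1]; omega
    have hz0 : S.glue i₀ (w ∘ fun _ => false) = 0 := by
      rw [Sys.glue]
      simp [w]
    refine ⟨S.glue i₀ (w ∘ c 1), S.glue i₀ (w ∘ c 2), ?_, ?_, ?_, hlen 1 le_rfl (by norm_num) (by omega),
      hlen 2 (by norm_num) le_rfl hm2⟩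
    · intro h
      have h1 := colour_count S i₀ w hw (a := (1 : A)) (c := c 1) (c' := fun _ => false) (by rw [one_smul, h, hz0]) true
      rw [(hcnt 1 (by omega)).1] at h1
      simp at h1
    · intro h
      have h1 := colour_count S i₀ w hw (a := (1 : A)) (c := c 2) (c' := fun _ => false) (by rw [one_smul, h, hz0]) true
      rw [(hcnt 2 hm2).1] at h1
      simp at h1
    · intro a h
      have h1 := colour_count S i₀ w hw h true
      rw [(hcnt 1 (by omega)).1, (hcnt 2 hm2).1] at h1
      omega
  · exact Or.inl (good (Finite.equivFin ι) (fun i => i) (fun _ => true) (fun i => by omega)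
      (fun i i' h => Fin.ext (by simpa using h))
      fun i => hglobal (permLe_seven A ι inferInstance h7.2) le_rfl _)
  · refine Or.inl (good (Finite.equivFin ι) (fun i => i) (fun _ => true) (fun i => by omega)
      (fun i i' h => Fin.ext (by simpa using h)) fun i => hglobal (n := 2) ?_ (by norm_num) _)
    exact len_prime (h11 ▸ (by norm_num : Nat.Prime 11))
      (h11 ▸ linEq_prime (by norm_num : Nat.Prime 11))
  · obtain ⟨e, he⟩ := exists_positions s (by omega)
    let z : Fin 5 → ℕ := ![4, 5, 6, 7, if Nat.card ι ≤ 10 then 7 else 4]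
    let b : Fin 5 → Bool := ![true, true, true, true, false]
    have hz : ∀ i, 4 ≤ z i ∧ z i ≤ 7 := fun i => by
      fin_cases i <;> simp [z]
      split_ifs <;> omega
    refine Or.inl (good e z b (fun i => (hz i).2.trans (by omega)) ?_ fun i a ha f => ?_)
    · intro i i'
      fin_cases i <;> fin_cases i' <;> simp [z, b] <;> split_ifs <;> omega
    · refine hs a (fun k => ?_) f
      refine fix_class _ (fun c hc g => colour_stab S i₀ w hw _ hc g) permLe_seven (j := b i) ?_ ha ?_
      · rw [card_seg e (by have := hz i; omega)]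
        have := hz i
        cases b i <;> simp <;> omega
      · show seg (z i) 0 (b i) (b i) (!b i) (e (s k)) = b i
        rw [seg, if_pos ((he k).trans_le (hz i).1)]

/-- Three colours. -/
theorem good_of_mid [Group.IsSolvable A] [Nontrivial ι] (hP : PrimLike A ι)
    (hW : letI := S.act i₀; Mid (stabilizer A i₀) (S.blk i₀)) : Good A V := by
  classical
  letI := S.act i₀
  obtain ⟨h8, u₁, u₂, hu₁, hu₂, hne, h1, h2⟩ := hW
  let w : Fin 3 → S.blk i₀ := ![0, u₁, u₂]
  have hw : ∀ i j (h : stabilizer A i₀), h • w i = w j → i = j := by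
    intro i j h
    fin_cases i <;> fin_cases j <;> simp [w] <;>
      first
        | exact fun e => absurd e.symm hu₁
        | exact fun e => absurd e.symm hu₂
        | exact fun e => absurd e hu₁
        | exact fun e => absurd e hu₂
        | exact Ne.symm hu₁
        | exact Ne.symm hu₂
        | assumption
        | exact hne h
        | exact fun e => absurd ((smul_eq_zero_iff_eq h).mp e) hu₁
        | exact fun e => absurd ((smul_eq_zero_iff_eq h).mp e) hu₂
        | (intro e; exact hne h⁻¹ (inv_smul_eq_iff.mpr e.symm))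
  let cost : Fin 3 → ℕ := ![8, 7, 7]
  have hcost : ∀ j, Len (S.blk i₀) (cost j) (stabilizer (stabilizer A i₀) (w j)) := fun j => by
    fin_cases j <;> simp [w, cost]
    · exact h8.mono le_top le_rfl
    · exact h1
    · exact h2
  have hm2 : 2 ≤ Nat.card ι := Finite.one_lt_card
  have good : ∀ (e : ι ≃ Fin (Nat.card ι)) (st : Fin 5 → ℕ × ℕ) (col : Fin 5 → Fin 3 × Fin 3 × Fin 3),
      (∀ i, (st i).1 + (st i).2 ≤ Nat.card ι) →
      (∀ i i', (∀ j, (if (col i).1 = j then (st i).1 else 0) + (if (col i).2.1 = j then (st i).2 else 0) +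
          (if (col i).2.2 = j then Nat.card ι - ((st i).1 + (st i).2) else 0) =
        (if (col i').1 = j then (st i').1 else 0) + (if (col i').2.1 = j then (st i').2 else 0) +
          (if (col i').2.2 = j then Nat.card ι - ((st i').1 + (st i').2) else 0)) → i = i') →
      (∀ i f, ∃ n, n + cost (seg (st i).1 (st i).2 (col i).1 (col i).2.1 (col i).2.2 (e f)) ≤ 9 ∧
        ∀ a ∈ ds (stabilizer A (S.glue i₀ (w ∘ fun g => seg (st i).1 (st i).2 (col i).1 (col i).2.1 (col i).2.2 (e g)))) n,
          a • f = f) → Good A V := by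
    intro e st col hst hinj hfix
    refine good_of_counts S i₀ w hw _ (fun i i' h => hinj i i' fun j => ?_)
      fun i => len_of_colours S i₀ w cost hcost _ (hfix i)
    have h1 := h j
    rwa [card_seg e (hst i), card_seg e (hst i')] at h1
  obtain ⟨⟨s, hs⟩, hprim⟩ := prim_data hP
  rcases (show Nat.card ι = 2 ∨ Nat.card ι = 3 ∨ Nat.card ι = 6 ∨
    (4 ≤ Nat.card ι ∧ Nat.card ι ≤ 7 ∧ Nat.card ι ≠ 6) ∨ 8 ≤ Nat.card ι by omega) with h | h | h | h | h
  · -- degree two
    refine good (Finite.equivFin ι) ![(0, 0), (0, 1), (0, 2), (1, 0), (1, 1)] (fun _ => (0, 1, 2))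
      (fun i => by fin_cases i <;> simp [h]) ?_ fun i f => ⟨1, ?_, fun a ha => ?_⟩
    · intro i i' hj
      have a := hj 0
      have b := hj 1
      revert a b
      fin_cases i <;> fin_cases i' <;> simp [h]
    · have : ∀ j, cost j ≤ 8 := fun j => by fin_cases j <;> simp [cost]
      exact Nat.add_le_add (le_refl 1) (this _)
    · exact fix_class _ (fun c hc g => colour_stab S i₀ w hw _ hc g) permLe_two
        ((Nat.card_le_card_of_injective _ Subtype.val_injective).trans h.le) ha rfl
  · -- degree three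
    refine good (Finite.equivFin ι) ![(0, 0), (0, 1), (0, 2), (0, 3), (1, 1)] (fun _ => (0, 1, 2))
      (fun i => by fin_cases i <;> simp [h]) ?_ fun i f => ?_
    · intro i i' hj
      have a := hj 0
      have b := hj 1
      revert a b
      fin_cases i <;> fin_cases i' <;> simp [h]
    · by_cases hj0 : seg (![(0, 0), (0, 1), (0, 2), (0, 3), (1, 1)] i : ℕ × ℕ).1
          (![(0, 0), (0, 1), (0, 2), (0, 3), (1, 1)] i : ℕ × ℕ).2 (0 : Fin 3) 1 2 (Finite.equivFin ι f) = 0
      · refine ⟨0, by simp only [hj0]; simp [cost], fun a ha => ?_⟩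
        refine fix_class _ (fun c hc g => colour_stab S i₀ w hw _ hc g) permLe_one ?_ ha hj0
        show Nat.card {g // seg _ _ (0 : Fin 3) 1 2 (Finite.equivFin ι g) = 0} ≤ 1
        rw [card_seg _ (by fin_cases i <;> simp [h])]
        fin_cases i <;> simp [h]
      · refine ⟨2, ?_, fun a ha => ?_⟩
        · have : ∀ j, j ≠ 0 → cost j ≤ 7 := fun j => by fin_cases j <;> simp [cost]
          exact Nat.add_le_add (le_refl 2) (this _ hj0)
        · exact fix_class _ (fun c hc g => colour_stab S i₀ w hw _ hc g) permLe_three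
            ((Nat.card_le_card_of_injective _ Subtype.val_injective).trans h.le) ha rfl
  · -- degree six
    refine good (Finite.equivFin ι) ![(0, 3), (1, 2), (1, 3), (2, 2), (2, 3)] (fun _ => (0, 1, 2))
      (fun i => by fin_cases i <;> simp [h]) ?_ fun i f => ?_
    · intro i i' hj
      have a := hj 0
      have b := hj 1
      revert a b
      fin_cases i <;> fin_cases i' <;> simp [h]
    · by_cases hj0 : seg (![(0, 3), (1, 2), (1, 3), (2, 2), (2, 3)] i : ℕ × ℕ).1
          (![(0, 3), (1, 2), (1, 3), (2, 2), (2, 3)] i : ℕ × ℕ).2 (0 : Fin 3) 1 2 (Finite.equivFin ι f) = 0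
      · refine ⟨1, by simp only [hj0]; simp [cost], fun a ha => ?_⟩
        refine fix_class _ (fun c hc g => colour_stab S i₀ w hw _ hc g) permLe_two ?_ ha hj0
        show Nat.card {g // seg _ _ (0 : Fin 3) 1 2 (Finite.equivFin ι g) = 0} ≤ 2
        rw [card_seg _ (by fin_cases i <;> simp [h])]
        fin_cases i <;> simp [h]
      · refine ⟨2, ?_, fun a ha => ?_⟩
        · have : ∀ j, j ≠ 0 → cost j ≤ 7 := fun j => by fin_cases j <;> simp [cost]
          exact Nat.add_le_add (le_refl 2) (this _ hj0)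
        · refine fix_class _ (fun c hc g => colour_stab S i₀ w hw _ hc g) permLe_three ?_ ha rfl
          show Nat.card {g // seg _ _ (0 : Fin 3) 1 2 (Finite.equivFin ι g) = _} ≤ 3
          rw [card_seg _ (by fin_cases i <;> simp [h])]
          generalize seg (![(0, 3), (1, 2), (1, 3), (2, 2), (2, 3)] i : ℕ × ℕ).1
            (![(0, 3), (1, 2), (1, 3), (2, 2), (2, 3)] i : ℕ × ℕ).2 (0 : Fin 3) 1 2 (Finite.equivFin ι f) = j at hj0 ⊢
          fin_cases i <;> fin_cases j <;> simp [h] at hj0 ⊢
  · -- degree four, five or seven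
    obtain ⟨h4, h7, h6⟩ := h
    let m := Nat.card ι
    let st : Fin 5 → ℕ × ℕ := ![(0, 1), (0, m - 1), (0, 2), (1, 1), (1, m - 2)]
    have hst : ∀ i, (st i).1 + (st i).2 ≤ m := fun i => by fin_cases i <;> simp [st, m] <;> omega
    refine good (Finite.equivFin ι) st (fun _ => (0, 1, 2)) hst ?_ fun i f => ?_
    · intro i i' hj
      have a := hj 0
      have b := hj 1
      revert a b
      fin_cases i <;> fin_cases i' <;> simp [st, m] <;> intros <;> omega
    · by_cases hj0 : seg (st i).1 (st i).2 (0 : Fin 3) 1 2 (Finite.equivFin ι f) = 0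
      · refine ⟨0, by simp only [hj0]; simp [cost], fun a ha => ?_⟩
        refine fix_class _ (fun c hc g => colour_stab S i₀ w hw _ hc g) permLe_one ?_ ha hj0
        show Nat.card {g // seg _ _ (0 : Fin 3) 1 2 (Finite.equivFin ι g) = 0} ≤ 1
        rw [card_seg _ (hst i)]
        fin_cases i <;> simp [st]
      · refine ⟨2, ?_, fun a ha => ?_⟩
        · have : ∀ j, j ≠ 0 → cost j ≤ 7 := fun j => by fin_cases j <;> simp [cost]
          exact Nat.add_le_add (le_refl 2) (this _ hj0)
        · rcases (show Nat.card ι = 4 ∨ (Nat.card ι).Prime by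
            rcases (show Nat.card ι = 4 ∨ Nat.card ι = 5 ∨ Nat.card ι = 7 by omega) with e | e | e
            · exact Or.inl e
            all_goals exact Or.inr (by rw [e]; norm_num)) with e | e
          · refine fix_class _ (fun c hc g => colour_stab S i₀ w hw _ hc g) permLe_three ?_ ha rfl
            show Nat.card {g // seg _ _ (0 : Fin 3) 1 2 (Finite.equivFin ι g) = _} ≤ 3
            rw [card_seg _ (hst i)]
            generalize seg (st i).1 (st i).2 (0 : Fin 3) 1 2 (Finite.equivFin ι f) = j at hj0 ⊢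
            fin_cases i <;> fin_cases j <;> simp [st, m, e] at hj0 ⊢
          · exact (len_prime e (linEq_prime e)).mono le_top le_rfl a ha f
  · -- large degree
    obtain ⟨e, he⟩ := exists_positions s (by omega)
    let st : Fin 5 → ℕ × ℕ := ![(2, 2), (2, 2), (2, 2), (1, 3), (1, 3)]
    let col : Fin 5 → Fin 3 × Fin 3 × Fin 3 := ![(1, 2, 0), (0, 1, 2), (0, 2, 1), (0, 1, 2), (0, 2, 1)]
    let c : Fin 5 → ι → Fin 3 := fun i g => seg (st i).1 (st i).2 (col i).1 (col i).2.1 (col i).2.2 (e g)
    refine good e st col (fun i => by fin_cases i <;> simp [st] <;> omega) ?_ fun i f => ?_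
    · intro i i' hj
      have a := hj 0
      have b := hj 1
      revert a b
      fin_cases i <;> fin_cases i' <;> simp [st, col] <;> omega
    -- the stabilizer after enough steps fixes the first segments and hence everything
    have hKc : ∀ a ∈ stabilizer A (S.glue i₀ (w ∘ c i)), ∀ g, c i (a • g) = c i g :=
      fun a ha g => colour_stab S i₀ w hw _ ha g
    have hcnt : ∀ j, Nat.card {g // c i g = j} = (if (col i).1 = j then (st i).1 else 0) +
        (if (col i).2.1 = j then (st i).2 else 0) +
        (if (col i).2.2 = j then Nat.card ι - ((st i).1 + (st i).2) else 0) :=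
      fun j => card_seg e (by fin_cases i <;> simp [st] <;> omega) _ _ _ _
    have hfirst : ∀ g, (e g : ℕ) < 4 → c i g = (col i).1 ∨ c i g = (col i).2.1 := fun g hg => by
      have h4 : (st i).1 + (st i).2 = 4 := by fin_cases i <;> simp [st]
      show seg _ _ _ _ _ _ = _ ∨ seg _ _ _ _ _ _ = _
      unfold seg
      split_ifs with h1 h2
      · exact Or.inl rfl
      · exact Or.inr rfl
      · omega
    have hall : ∀ a ∈ ds (stabilizer A (S.glue i₀ (w ∘ c i))) (if (i : ℕ) < 3 then 1 else 2), a • f = f := by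
      intro a ha
      refine hs a (fun k => ?_) f
      by_cases hlow : (i : ℕ) < 3
      · rw [if_pos hlow] at ha
        refine fix_class (c i) hKc permLe_two ?_ ha rfl
        rw [hcnt]
        rcases hfirst _ (he k) with e' | e' <;> rw [e'] <;> fin_cases i <;> simp [st, col] at hlow ⊢
      · rw [if_neg hlow] at ha
        refine fix_class (c i) hKc permLe_three ?_ ha rfl
        rw [hcnt]
        rcases hfirst _ (he k) with e' | e' <;> rw [e'] <;> fin_cases i <;> simp [st, col] at hlow ⊢
    by_cases hlow : (i : ℕ) < 3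
    · refine ⟨1, ?_, fun a ha => hall a (by rw [if_pos hlow]; exact ha)⟩
      have : ∀ j, cost j ≤ 8 := fun j => by fin_cases j <;> simp [cost]
      exact Nat.add_le_add (le_refl 1) (this (c i f))
    · by_cases hj0 : c i f = 0
      · refine ⟨0, ?_, fun a ha => ?_⟩
        · show 0 + cost (c i f) ≤ 9
          rw [hj0]
          simp [cost]
        · refine fix_class (c i) hKc permLe_one ?_ ha hj0
          rw [hcnt]
          fin_cases i <;> simp [st, col] at hlow ⊢
      · refine ⟨2, ?_, fun a ha => hall a (by rw [if_neg hlow]; exact ha)⟩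
        have : ∀ j, j ≠ 0 → cost j ≤ 7 := fun j => by fin_cases j <;> simp [cost]
        exact Nat.add_le_add (le_refl 2) (this (c i f) hj0)

/-- The imprimitive step. -/
theorem kind_of_sys [Group.IsSolvable A] [Nontrivial ι] (hP : PrimLike A ι) (hirr : Irr A V)
    (hW : letI := S.act i₀; Kind (stabilizer A i₀) (S.blk i₀)) : Kind A V := by
  letI := S.act i₀
  rcases hW with h | h | h
  · exact Or.inl (good_of_good S i₀ h)
  · exact kind_of_few S i₀ hP hirr h
  · exact Or.inl (good_of_mid S i₀ hP h)

end Step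

end CfsgLib.VecStab
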