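import Cfsg.Agent.Lib.VecStab.Classes
import Cfsg.Agent.Lib.TransitiveLinear.Large

/-!
The field case has one of the three kinds.
-/

set_option autoImplicit false
set_option linter.style.haveILetI false
set_option linter.unusedSectionVars false

namespace CfsgLib.VecStab

open MulAction CfsgLib.OddBase
open scoped commutatorElement

universe u

/-- A polynomial below a power of three. -/
theorem poly_lt {K k a d : ℕ} (hd : d ≤ a) (ha : 0 < a) (h0 : K * a ^ k < 3 ^ (a - d)) (h1 : (a + 1) ^ k ≤ 3 * a ^ k) :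
    ∀ {e : ℕ}, a ≤ e → ∀ {Q : ℕ}, 3 ≤ Q → K * e ^ k * Q ^ d < Q ^ e := by
  intro e he Q hQ
  have key : K * e ^ k < 3 ^ (e - d) := by
    induction e, he using Nat.le_induction with
    | base => exact h0
    | succ n hn ih =>
      have hstep : (n + 1) ^ k ≤ 3 * n ^ k := by
        refine Nat.le_of_mul_le_mul_right ?_ (pow_pos ha k)
        calc (n + 1) ^ k * a ^ k = ((n + 1) * a) ^ k := (mul_pow _ _ _).symm
          _ ≤ (n * (a + 1)) ^ k := Nat.pow_le_pow_left (by nlinarith) k
          _ = n ^ k * (a + 1) ^ k := mul_pow _ _ _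
          _ ≤ n ^ k * (3 * a ^ k) := Nat.mul_le_mul_left _ h1
          _ = _ := by ring
      rw [show n + 1 - d = n - d + 1 by omega, pow_succ]
      calc K * (n + 1) ^ k ≤ K * (3 * n ^ k) := Nat.mul_le_mul_left _ hstep
        _ = K * n ^ k * 3 := by ring
        _ < _ := Nat.mul_lt_mul_of_pos_right ih (by norm_num)
  calc K * e ^ k * Q ^ d < Q ^ (e - d) * Q ^ d :=
        Nat.mul_lt_mul_of_pos_right (key.trans_le (Nat.pow_le_pow_left hQ _)) (pow_pos (by omega) d)
    _ = Q ^ e := by rw [← pow_add, Nat.sub_add_cancel (hd.trans he)]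

section
variable {A V : Type u} [Group A] [Finite A] [AddCommGroup V] [Finite V] [DistribMulAction A V]
  {Z F L : Subgroup A}

local notation "Cz" => Subgroup.centralizer (Z : Set A)

/-- Five inequivalent vectors avoiding the fixed spaces of a subgroup. -/
theorem exists_five (T : Subgroup A) (k : ℕ) (hb : ∀ g ∈ T, g ≠ 1 → fc V g ^ (k + 1) ≤ Nat.card V ^ k)
    (hT : (2 * Nat.card T) ^ (k + 1) < Nat.card V) (hA : 8 * Nat.card A < Nat.card V) :
    ∃ v : Fin 5 → V, (∀ i j (a : A), a • v i = v j → i = j) ∧ ∀ i, ∀ a ∈ T, a • v i = v i → a = 1 := by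
  classical
  haveI : Fintype A := Fintype.ofFinite _
  haveI : Fintype V := Fintype.ofFinite _
  let T' : Finset A := (Finset.univ.erase 1).filter fun g => g ∈ T
  let fixS : A → Finset V := fun g => Finset.univ.filter fun x => g • x = x
  let B : Finset V := T'.biUnion fixS
  have hfix : ∀ g, (fixS g).card = fc V g := fun g => by
    rw [← Fintype.card_subtype, ← Nat.card_eq_fintype_card]
    rfl
  have hTcard : T'.card ≤ Nat.card T := by
    rw [Nat.card_eq_fintype_card, Fintype.card_subtype]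
    exact Finset.card_le_card fun g hg => Finset.mem_filter.mpr ⟨Finset.mem_univ _, (Finset.mem_filter.mp hg).2⟩
  have hB : 2 * B.card < Nat.card V := by
    let N := T'.sup fun g => fc V g
    have h1 : B.card ≤ Nat.card T * N := by
      refine (Finset.card_biUnion_le.trans (Finset.sum_le_card_nsmul _ _ N fun g hg => ?_)).trans
        (Nat.mul_le_mul_right _ hTcard)
      rw [hfix]
      exact Finset.le_sup (f := fun g => fc V g) hg
    have h2 : N ^ (k + 1) ≤ Nat.card V ^ k := by
      rcases T'.eq_empty_or_nonempty with e | hne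
      · simp [N, e]
      · obtain ⟨g, hg, hge⟩ := Finset.exists_mem_eq_sup T' hne fun g => fc V g
        show (T'.sup fun g => fc V g) ^ (k + 1) ≤ _
        rw [hge]
        obtain ⟨hg1, hg2⟩ := Finset.mem_filter.mp hg
        exact hb g hg2 (Finset.mem_erase.mp hg1).1
    refine (Nat.pow_lt_pow_iff_left (Nat.succ_ne_zero k)).mp ?_
    calc (2 * B.card) ^ (k + 1) ≤ (2 * Nat.card T * N) ^ (k + 1) :=
          Nat.pow_le_pow_left (by rw [mul_assoc]; exact Nat.mul_le_mul_left 2 h1) _
      _ = (2 * Nat.card T) ^ (k + 1) * N ^ (k + 1) := mul_pow _ _ _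
      _ ≤ (2 * Nat.card T) ^ (k + 1) * Nat.card V ^ k := Nat.mul_le_mul_left _ h2
      _ < Nat.card V * Nat.card V ^ k := Nat.mul_lt_mul_of_pos_right hT (pow_pos Nat.card_pos k)
      _ = Nat.card V ^ (k + 1) := by ring
  have step : ∀ j, j ≤ 5 → ∃ v : Fin j → V,
      (∀ i i' (a : A), a • v i = v i' → i = i') ∧ ∀ i, v i ∉ B := by
    intro j
    induction j with
    | zero => exact fun _ => ⟨Fin.elim0, fun i => i.elim0, fun i => i.elim0⟩
    | succ j ih =>
      intro hj
      obtain ⟨v, hv, hvB⟩ := ih (by omega)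
      let U : Finset V := B ∪ (Finset.univ : Finset (A × Fin j)).image fun p => p.1 • v p.2
      have hU : U.card < Fintype.card V := by
        have h1 : U.card ≤ B.card + Fintype.card A * j := (Finset.card_union_le _ _).trans
          (Nat.add_le_add_left (Finset.card_image_le.trans (by simp)) _)
        have h2 : Fintype.card A * j ≤ Fintype.card A * 4 := Nat.mul_le_mul_left _ (by omega)
        rw [Nat.card_eq_fintype_card] at hA hB
        rw [Nat.card_eq_fintype_card] at hA
        omega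
      obtain ⟨x, hx⟩ : ∃ x, x ∉ U := by
        by_contra hcon
        push Not at hcon
        exact hU.ne (by rw [Finset.eq_univ_iff_forall.mpr hcon, Finset.card_univ])
      have hxo : ∀ (a : A) i, a • v i ≠ x := fun a i e =>
        hx (Finset.mem_union_right _ (Finset.mem_image.mpr ⟨(a, i), Finset.mem_univ _, e⟩))
      refine ⟨Fin.snoc v x, fun i i' a h => ?_, fun i => ?_⟩
      · revert h
        induction i using Fin.lastCases with
        | last =>
          induction i' using Fin.lastCases with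
          | last => exact fun _ => rfl
          | cast i' =>
            rw [Fin.snoc_last, Fin.snoc_castSucc]
            exact fun h => absurd (by rw [← h, inv_smul_smul]) (hxo a⁻¹ i')
        | cast i =>
          induction i' using Fin.lastCases with
          | last =>
            rw [Fin.snoc_last, Fin.snoc_castSucc]
            exact fun h => absurd h (hxo a i)
          | cast i' =>
            rw [Fin.snoc_castSucc, Fin.snoc_castSucc]
            exact fun h => congrArg Fin.castSucc (hv i i' a h)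
      · induction i using Fin.lastCases with
        | last =>
          rw [Fin.snoc_last]
          exact fun h => hx (Finset.mem_union_left _ h)
        | cast i =>
          rw [Fin.snoc_castSucc]
          exact hvB i
  obtain ⟨v, hv, hvB⟩ := step 5 le_rfl
  refine ⟨v, hv, fun i a ha hav => by_contra fun h1 => hvB i ?_⟩
  exact Finset.mem_biUnion.mpr ⟨a, Finset.mem_filter.mpr ⟨Finset.mem_erase.mpr ⟨h1, Finset.mem_univ _⟩, ha⟩,
    Finset.mem_filter.mpr ⟨Finset.mem_univ _, hav⟩⟩

omit [Finite A] [Finite V] in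
/-- Semilinear groups of dimension one are metabelian. -/
theorem len_semilinear {K : Type} [Field K] [Finite K] (e : V ≃+ K)
    (h : ∀ a : A, ∃ (α : K) (σ : K ≃+* K), ∀ v : V, e (a • v) = α * σ (e v)) : Len V 2 (⊤ : Subgroup A) := by
  obtain ⟨g, hg⟩ := IsCyclic.exists_generator (α := Kˣ)
  have hσ : ∀ σ : K ≃+* K, ∃ i : ℤ, ∀ y : Kˣ, σ (y : K) = ((y ^ i : Kˣ) : K) := fun σ => by
    obtain ⟨i, hi⟩ := Subgroup.mem_zpowers_iff.mp (hg (Units.map (σ : K →* K) g))
    refine ⟨i, fun y => ?_⟩
    obtain ⟨m, rfl⟩ := Subgroup.mem_zpowers_iff.mp (hg y)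
    have h1 : (Units.map (σ : K →* K) (g ^ m) : K) = _ := congrArg Units.val (map_zpow (Units.map (σ : K →* K)) g m)
    rw [← hi, ← zpow_mul, mul_comm, zpow_mul] at h1
    exact h1
  have hcomm : ∀ (σ τ : K ≃+* K) (x : K), σ (τ x) = τ (σ x) := fun σ τ x => by
    by_cases hx : x = 0
    · simp [hx]
    obtain ⟨i, hi⟩ := hσ σ
    obtain ⟨j, hj⟩ := hσ τ
    rw [← Units.val_mk0 hx, hj, hi, hi, hj, ← zpow_mul, ← zpow_mul, mul_comm]
  have hc : ∀ a b : A, ∃ γ : K, ∀ w : V, e (⁅a, b⁆ • w) = γ * e w := by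
    intro a b
    obtain ⟨α, σ, ha⟩ := h a
    obtain ⟨β, τ, hb⟩ := h b
    refine ⟨α * σ β / (β * τ α), fun w => ?_⟩
    obtain ⟨v, rfl⟩ : ∃ v, (b * a) • v = w := ⟨(b * a)⁻¹ • w, smul_inv_smul _ _⟩
    rw [← mul_smul, show ⁅a, b⁆ * (b * a) = a * b by rw [commutatorElement_def]; group, mul_smul, mul_smul, ha, hb,
      hb, ha, map_mul, map_mul, hcomm]
    by_cases hv : e v = 0
    · simp [hv]
    have hne : ∀ (a : A) (α : K) (σ : K ≃+* K), (∀ v : V, e (a • v) = α * σ (e v)) → α ≠ 0 := fun a α σ ha h0 => by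
      have h1 := ha v
      rw [h0, zero_mul, AddEquiv.map_eq_zero_iff, smul_eq_zero_iff_eq] at h1
      exact hv (by rw [h1, map_zero])
    have hα := hne a α σ ha
    have hβ := hne b β τ hb
    have hτ : τ α ≠ 0 := (map_ne_zero τ).mpr hα
    field_simp
  let M : Subgroup A :=
    { carrier := {a | ∀ c : A, (∃ γ : K, ∀ w : V, e (c • w) = γ * e w) → ∀ x : V, a • c • x = c • a • x}
      one_mem' := fun c _ x => by simp
      mul_mem' := fun {a b} ha hb c hc x => by rw [mul_smul, mul_smul, hb c hc, ha c hc]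
      inv_mem' := fun {a} ha c hc x => by
        conv_lhs => rw [← smul_inv_smul a x]
        rw [← ha c hc, inv_smul_smul] }
  have hmult : ∀ a : A, (∃ γ : K, ∀ w : V, e (a • w) = γ * e w) → a ∈ M := by
    rintro a ⟨γ, hγ⟩ c ⟨δ, hδ⟩ x
    refine e.injective ?_
    rw [hγ, hδ, hδ, hγ, mul_left_comm]
  have hle : ds (⊤ : Subgroup A) 1 ≤ M := by
    rw [ds_succ, ds_zero, Subgroup.commutator_le]
    exact fun a _ b _ => hmult _ (hc a b)
  have h2 : ⁅M, ds (⊤ : Subgroup A) 1⁆ ≤ (MulAction.toPermHom A V).ker := by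
    let N : Subgroup A :=
      { carrier := {b | ∀ a ∈ M, ∀ x : V, a • b • x = b • a • x}
        one_mem' := fun a _ x => by simp
        mul_mem' := fun {p q} hp hq a ha x => by rw [mul_smul, mul_smul, hp a ha, hq a ha]
        inv_mem' := fun {p} hp a ha x => by
          conv_rhs => rw [← smul_inv_smul p x]
          rw [hp a ha, inv_smul_smul] }
    have hN : ds (⊤ : Subgroup A) 1 ≤ N := by
      rw [ds_succ, ds_zero, Subgroup.commutator_le]
      exact fun a _ b _ c hc' => hc' _ (hc a b)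
    rw [Subgroup.commutator_le]
    intro a ha b hb
    refine MonoidHom.mem_ker.mpr (Equiv.ext fun x => ?_)
    show ⁅a, b⁆ • x = x
    rw [commutatorElement_def, mul_smul, mul_smul, mul_smul, hN hb a ha, smul_inv_smul, smul_inv_smul]
  intro a ha x
  rw [ds_succ] at ha
  exact DFunLike.congr_fun (MonoidHom.mem_ker.mp (h2 (Subgroup.commutator_mono hle le_rfl ha))) x

/-- Large dimension, in a group transitive on non-zero vectors. -/
theorem len_transitive [Group.IsSolvable A] (h : Setup A V Z) (hirr : Irr A V)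
    (he : 8 ≤ Z.relIndex L) (hQ : 3 ≤ Nat.card (genRing (V := V) Z))
    (hV : Nat.card (genRing (V := V) Z) ^ Z.relIndex L ≤ Nat.card V)
    (ht : ∀ v w : V, v ≠ 0 → w ≠ 0 → ∃ a : A, a • v = w) : Len V 2 (⊤ : Subgroup A) := by
  classical
  obtain ⟨p, hp, hpx⟩ := exists_char hirr
  haveI := Fact.mk hp
  haveI : Module (ZMod p) V := AddCommGroup.zmodModule hpx
  haveI : Nontrivial V := ⟨⟨_, 0, hirr.1.choose_spec⟩⟩
  let T : A → (V ≃ₗ[ZMod p] V) := fun a =>
    { toFun := fun x => a • x
      map_add' := smul_add a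
      map_smul' := fun c x => ZMod.map_smul (DistribSMul.toAddMonoidHom V a) c x
      invFun := fun x => a⁻¹ • x
      left_inv := inv_smul_smul a
      right_inv := smul_inv_smul a }
  let ρ : A →* (V ≃ₗ[ZMod p] V) := MonoidHom.mk' T fun a b => LinearEquiv.ext fun x => mul_smul a b x
  haveI := h.faith
  have hρ : Function.Injective ρ := fun a b e => eq_of_smul_eq_smul fun x : V => DFunLike.congr_fun e x
  set Q := Nat.card (genRing (V := V) Z)
  have hcard : Nat.card V = p ^ Module.finrank (ZMod p) V := by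
    rw [Module.natCard_eq_pow_finrank (K := ZMod p), Nat.card_zmod]
  by_cases hn : 3 ≤ Module.finrank (ZMod p) V
  · rcases CfsgLib.TransitiveLinear.semi_or_81 hρ ht hn with ⟨K, _, _, e, hs⟩ | h81
    · exact len_semilinear e fun a => hs a
    · have : Q ^ 8 ≤ 81 := h81 ▸ (Nat.pow_le_pow_right (by omega) he).trans hV
      have : 3 ^ 8 ≤ 81 := (Nat.pow_le_pow_left hQ 8).trans this
      norm_num at this
  · exfalso
    have hpQ : p ≤ Q := by
      obtain ⟨q, hq, hd⟩ := Nat.exists_prime_and_dvd (n := Q) (by omega)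
      haveI := Fact.mk hq
      haveI : Finite (genRing (V := V) Z) := Nat.finite_of_card_ne_zero (by omega)
      obtain ⟨r, hr⟩ := exists_prime_addOrderOf_dvd_card' (G := genRing (V := V) Z) q hd
      have h1 : addOrderOf r ∣ p := addOrderOf_dvd_of_nsmul_eq_zero (Subtype.ext (DFunLike.ext _ _ fun x => by
        show p • (r : AddMonoid.End V) x = 0
        exact hpx _))
      rw [hr, Nat.prime_dvd_prime_iff_eq hq hp] at h1
      exact h1 ▸ Nat.le_of_dvd (by omega) hd
    have h1 : Q ^ 8 ≤ Q ^ 2 :=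
      calc Q ^ 8 ≤ Q ^ Z.relIndex L := Nat.pow_le_pow_right (by omega) he
        _ ≤ p ^ Module.finrank (ZMod p) V := hV.trans hcard.le
        _ ≤ p ^ 2 := Nat.pow_le_pow_right hp.pos (by omega)
        _ ≤ Q ^ 2 := Nat.pow_le_pow_left hpQ 2
    have := (Nat.pow_le_pow_iff_right (by omega : 1 < Q)).mp h1
    omega

/-- The field case. -/
theorem kind_field [Group.IsSolvable A] (h : Setup A V Z) (hirr : Irr A V) : Kind A V := by
  classical
  rcases trivial_or_frame h with hCZ | ⟨F, L, hf, he2, hQ, hV⟩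
  · exact Or.inr (Or.inl ((len_trivial h hCZ).1.mono le_rfl (by norm_num)))
  set e := Z.relIndex L with he
  set Q := Nat.card (genRing (V := V) Z) with hQdef
  rcases (show e ≤ 7 ∨ (8 ≤ e ∧ e ≤ 63) ∨ 64 ≤ e by omega) with h7 | h63 | h64
  · exact Or.inr (Or.inl (len_field hf (g := 4) (by norm_num)
      (linLe_63.to_eq ((Nat.mul_le_mul h7 h7).trans (by norm_num)) le_rfl)).1)
  · obtain ⟨htop, hst, -⟩ := len_field hf (g := 6) (by norm_num)
      (linLe_4095.to_eq ((Nat.mul_le_mul h63.2 h63.2).trans (by norm_num)) le_rfl)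
    by_cases ht : ∀ v w : V, v ≠ 0 → w ≠ 0 → ∃ a : A, a • v = w
    · exact Or.inr (Or.inl ((len_transitive h hirr h63.1 hQ hV ht).mono le_rfl (by norm_num)))
    · push Not at ht
      obtain ⟨v, w, hv, hw, hvw⟩ := ht
      exact Or.inr (Or.inr ⟨htop, v, w, hv, hw, hvw, hst v hv, hst w hw⟩)
  haveI := hf.base.normal
  haveI := hf.normal
  have hFcard : Nat.card F ≤ Q * (e * e) := card_F_le hf
  have hCcard : Nat.card (Cz : Subgroup A) ≤ Q * e ^ 8 :=
    calc Nat.card (Cz : Subgroup A) ≤ (e * e) ^ 3 * Nat.card F :=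
          card_C_le hf ((Nat.card_le_card_of_injective _ (Subgroup.inclusion_injective (Subgroup.map_le_range _ _))).trans
            (card_image_le hf))
      _ ≤ (e * e) ^ 3 * (Q * (e * e)) := Nat.mul_le_mul_left _ hFcard
      _ = _ := by ring
  have hA : 8 * Nat.card A < Nat.card V :=
    calc 8 * Nat.card A ≤ 8 * (Nat.card Z * Nat.card (Cz : Subgroup A)) := Nat.mul_le_mul_left _ (card_le_mul h)
      _ ≤ 8 * (Q * (Q * e ^ 8)) := Nat.mul_le_mul_left _ (Nat.mul_le_mul (card_lt_field h).le hCcard)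
      _ = 8 * e ^ 8 * Q ^ 2 := by ring
      _ < _ := (poly_lt (a := 64) (by norm_num) (by norm_num) (by norm_num) (by norm_num) h64 hQ).trans_le hV
  have hZfree : ∀ g ∈ Z, g ≠ 1 → ∀ k, fc V g ^ (k + 1) ≤ Nat.card V ^ k := fun g hg hg1 k => by
    rw [h.fc_center hg hg1, one_pow]
    exact Nat.one_le_pow _ _ Nat.card_pos
  rcases (show e < 256 ∨ 256 ≤ e by omega) with h256 | h256
  · obtain ⟨-, -, hfree⟩ := len_field hf (g := 8) (by norm_num)
      (linLe_65535.to_eq ((Nat.mul_le_mul (Nat.le_of_lt_succ h256) (Nat.le_of_lt_succ h256)).trans (by norm_num)) le_rfl)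
    obtain ⟨v, hv, hvF⟩ := exists_five F 1 (fun g hg hg1 => by
        by_cases hgZ : g ∈ Z
        · exact hZfree g hgZ hg1 1
        · rw [pow_one]; exact fc_section hf hg hgZ)
      (calc (2 * Nat.card F) ^ (1 + 1) ≤ (2 * (Q * (e * e))) ^ (1 + 1) :=
            Nat.pow_le_pow_left (Nat.mul_le_mul_left _ hFcard) _
        _ = 4 * e ^ 4 * Q ^ 2 := by ring
        _ < _ := (poly_lt (a := 64) (by norm_num) (by norm_num) (by norm_num) (by norm_num) h64 hQ).trans_le hV) hA
    exact Or.inl ⟨v, hv, fun i => (hfree (v i) (hvF i)).mono le_rfl (by norm_num)⟩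
  · obtain ⟨v, hv, hvC⟩ := exists_five (Cz : Subgroup A) 3 (fun g hg hg1 => by
        by_cases hgF : g ∈ F
        · by_cases hgZ : g ∈ Z
          · exact hZfree g hgZ hg1 3
          · calc fc V g ^ (3 + 1) = (fc V g ^ 2) ^ 2 := by ring
              _ ≤ Nat.card V ^ 2 := Nat.pow_le_pow_left (fc_section hf hgF hgZ) 2
              _ ≤ _ := Nat.pow_le_pow_right Nat.card_pos (by norm_num)
        · exact fc_linear hf hg hgF)
      (calc (2 * Nat.card (Cz : Subgroup A)) ^ (3 + 1) ≤ (2 * (Q * e ^ 8)) ^ (3 + 1) :=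
            Nat.pow_le_pow_left (Nat.mul_le_mul_left _ hCcard) _
        _ = 16 * e ^ 32 * Q ^ 4 := by ring
        _ < _ := (poly_lt (a := 256) (by norm_num) (by norm_num) (by norm_num) (by norm_num) h256 hQ).trans_le hV) hA
    refine Or.inl ⟨v, hv, fun i a ha x => ?_⟩
    have h1 : a ∈ ds (stabilizer A (v i)) 1 := ds_anti _ (by norm_num) ha
    rw [hvC i a (ds_one_le_cent h (ds_mono le_top 1 h1)) (ds_le _ _ h1), one_smul]

end

end CfsgLib.VecStab
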