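import Cfsg.Agent.Lib.VecStab.Field

/-!
Completely reducible solvable groups have a vector with stabilizer of derived length at most nine.
-/

set_option autoImplicit false
set_option linter.style.haveILetI false
set_option linter.unusedSectionVars false

namespace CfsgLib.VecStab

open MulAction CfsgLib.OddBase

universe u

variable {A V : Type u} [Group A] [Finite A] [AddCommGroup V] [Finite V] [DistribMulAction A V]

theorem Kind.of_image {G : Type u} [Group G] [DistribMulAction G V] (f : A →* G)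
    (hf : ∀ (a : A) (x : V), f a • x = a • x) (h : Kind G V) : Kind A V := by
  have htop : ∀ n, Len V n (⊤ : Subgroup G) → Len V n (⊤ : Subgroup A) := fun n => len_of_image f hf le_top
  have hst : ∀ n v, Len V n (stabilizer G v) → Len V n (stabilizer A v) :=
    fun n v => len_of_image f hf (map_stabilizer_le f hf v)
  rcases h with ⟨v, hv, hl⟩ | h | ⟨h8, w₁, w₂, h1, h2, hne, hl1, hl2⟩
  · exact Or.inl ⟨v, fun i j a e => hv i j (f a) ((hf a (v i)).trans e), fun i => hst 9 _ (hl i)⟩
  · exact Or.inr (Or.inl (htop 6 h))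
  · exact Or.inr (Or.inr ⟨htop 8 h8, w₁, w₂, h1, h2, fun a e => hne (f a) ((hf a w₁).trans e), hst 7 _ hl1, hst 7 _ hl2⟩)

/-- Irreducible groups have one of the three kinds. -/
theorem kind_irr : ∀ (n : ℕ) (A V : Type u) [Group A] [Finite A] [Group.IsSolvable A] [AddCommGroup V] [Finite V]
    [DistribMulAction A V], Nat.card A ≤ n → Irr A V → Kind A V := by
  intro n
  induction n using Nat.strong_induction_on with
  | _ n ih =>
  intro A V _ _ _ _ _ _ hn hirr
  obtain ⟨G, _, _, _, f, hsurj, hf, hfaith, hsol, hirrG⟩ := image_irr hirr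
  refine Kind.of_image f hf ?_
  haveI : Group.IsSolvable G := hsol
  rcases field_or_sys hfaith hirrG with ⟨Z, hZ⟩ | ⟨ι, _, _, S, _, _, hP⟩
  · exact kind_field hZ hirrG
  obtain ⟨i₀⟩ := (inferInstance : Nonempty ι)
  letI := S.act i₀
  have hlt : Nat.card (stabilizer G i₀) < n := by
    refine lt_of_lt_of_le (lt_of_le_of_ne (Subgroup.card_le_card_group _) fun h => ?_)
      ((Nat.card_le_card_of_surjective f hsurj).trans hn)
    obtain ⟨j, hj⟩ := exists_ne i₀
    obtain ⟨g, hg⟩ := exists_smul_eq G i₀ j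
    exact hj (hg ▸ mem_stabilizer_iff.mp ((Subgroup.eq_top_of_card_eq _ h).ge (Subgroup.mem_top g)))
  exact kind_of_sys S i₀ hP hirrG (ih _ hlt (stabilizer G i₀) (S.blk i₀) le_rfl (S.blk_irr hirrG i₀))

theorem Kind.exists_len (h : Kind A V) : ∃ v : V, Len V 9 (stabilizer A v) := by
  rcases h with ⟨v, -, hl⟩ | h | ⟨h, -⟩
  · exact ⟨v 0, hl 0⟩
  · exact ⟨0, h.mono le_top (by norm_num)⟩
  · exact ⟨0, h.mono le_top (by norm_num)⟩

/-- A sum of two vectors. -/
theorem stab_sum {U W : Type u} [AddCommGroup U] [DistribMulAction A U] [AddCommGroup W] [DistribMulAction A W]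
    (f : U × W ≃+ V) (hf : ∀ (a : A) (p : U × W), f (a • p.1, a • p.2) = a • f p) (u : U) (w : W) :
    stabilizer A (f (u, w)) ≤ stabilizer A u ∧ stabilizer A (f (u, w)) ≤ stabilizer A w := by
  refine ⟨fun a ha => ?_, fun a ha => ?_⟩ <;>
  · have h1 := f.injective ((hf a (u, w)).trans ha)
    simp only [Prod.mk.injEq] at h1
    first
      | exact h1.1
      | exact h1.2

/-- A vector with stabilizer of derived length at most nine. -/
theorem exists_len_nine [Group.IsSolvable A] (hcr : CR A V) : ∃ v : V, Len V 9 (stabilizer A v) := by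
  refine cr_rec (A := A) (fun W _ _ => ∃ v : W, Len W 9 (stabilizer A v)) (Nat.card V) ?_ ?_ ?_ V le_rfl hcr
  · intro W _ _ _ h0
    exact ⟨0, fun a _ x => by rw [h0 (a • x), h0 x]⟩
  · intro W _ _ _ _ hirr
    exact (kind_irr _ A W le_rfl hirr).exists_len
  · intro W U U' _ _ _ _ _ _ _ _ _ f hf ⟨u, hu⟩ ⟨u', hu'⟩
    refine ⟨f (u, u'), fun a ha x => ?_⟩
    obtain ⟨h1, h2⟩ := stab_sum f hf u u'
    obtain ⟨p, rfl⟩ := f.surjective x
    rw [← hf, hu a (ds_mono h1 9 ha) p.1, hu' a (ds_mono h2 9 ha) p.2]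

end CfsgLib.VecStab
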