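import Cfsg.Agent.Lib.VecStab.OddField

/-!
Odd order and odd characteristic: a vector with abelian stabilizer.
-/

set_option autoImplicit false
set_option linter.style.haveILetI false
set_option linter.unusedSectionVars false

namespace CfsgLib.VecStab

open MulAction CfsgLib.OddBase
open scoped commutatorElement

universe u

variable {A V : Type u} [Group A] [Finite A] [AddCommGroup V] [Finite V] [DistribMulAction A V]

theorem eq_zero_of_eq_neg (hV : Odd (Nat.card V)) {u : V} (h : u = -u) : u = 0 := by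
  have h2 : addOrderOf u ∣ 2 := addOrderOf_dvd_of_nsmul_eq_zero (by
    rw [two_nsmul]; nth_rewrite 2 [h]; rw [add_neg_cancel])
  rcases (Nat.dvd_prime Nat.prime_two).mp h2 with h' | h'
  · exact AddMonoid.addOrderOf_eq_one_iff.mp h'
  · exact absurd (hV.of_dvd_nat (h' ▸ addOrderOf_dvd_natCard u)) (by decide)

/-- The imprimitive step in odd order. -/
theorem comm_sys {ι : Type u} [MulAction A ι] [Fintype ι] [IsPretransitive A ι] (S : Sys A V ι) (i₀ : ι)
    (hodd : Odd (Nat.card A)) (hV : Odd (Nat.card V))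
    (hW : letI := S.act i₀; ∃ w : S.blk i₀, Comm (S.blk i₀) (stabilizer (stabilizer A i₀) w)) :
    ∃ v : V, Comm V (stabilizer A v) := by
  classical
  letI := S.act i₀
  have hbodd : Odd (Nat.card (S.blk i₀)) := hV.of_dvd_nat (S.blk i₀).card_addSubgroup_dvd_card
  obtain ⟨u, hu, hcomm⟩ : ∃ u : S.blk i₀, u ≠ 0 ∧ Comm (S.blk i₀) (stabilizer (stabilizer A i₀) u) := by
    obtain ⟨w, hw⟩ := hW
    by_cases h0 : w = 0
    · obtain ⟨x, hx⟩ := S.ne i₀
      refine ⟨⟨S.e i₀ x, S.idem i₀ x⟩, fun e => hx (congrArg Subtype.val e), hw.mono fun a _ => ?_⟩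
      rw [mem_stabilizer_iff, h0, smul_zero]
    · exact ⟨w, h0, hw⟩
  have hne : u ≠ -u := fun e => hu (eq_zero_of_eq_neg hbodd e)
  have hoddH : Odd (Nat.card (stabilizer A i₀)) := hodd.of_dvd_nat (Subgroup.card_subgroup_dvd_card _)
  let w : Bool → S.blk i₀ := fun b => if b then u else -u
  have hswap : ∀ h : stabilizer A i₀, h • u ≠ -u := fun h e => by
    have h2 : h • h • u = u := by rw [e, smul_neg, e, neg_neg]
    exact hne ((smul_eq_of_sq hoddH h2).symm.trans e)
  have hw : ∀ i j (h : stabilizer A i₀), h • w i = w j → i = j := by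
    intro i j h
    cases i <;> cases j
    · exact fun _ => rfl
    · intro e
      simp only [w, Bool.false_eq_true, if_false, if_true, smul_neg, neg_eq_iff_eq_neg] at e
      exact absurd e (hswap h)
    · intro e
      simp only [w, Bool.false_eq_true, if_false, if_true] at e
      exact absurd e (hswap h)
    · exact fun _ => rfl
  have hst : ∀ b, stabilizer (stabilizer A i₀) (w b) ≤ stabilizer (stabilizer A i₀) u := fun b a ha => by
    cases b
    · simpa [w, mem_stabilizer_iff, smul_neg, neg_inj] using ha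
    · exact ha
  obtain ⟨T, hT⟩ := coloured_of_IH (ih_all (Nat.card A)) _ A ι rfl le_rfl hodd
  let c : ι → Bool := fun f => decide (f ∈ T)
  let v := S.glue i₀ (w ∘ c)
  have hfix : ∀ a ∈ stabilizer A v, ∀ f : ι, a • f = f := fun a ha => hT a fun f => by
    have h1 := S.colour_eq i₀ w hw (mem_stabilizer_iff.mp ha) f
    simpa [c] using h1
  refine ⟨v, fun a ha b hb x => ?_⟩
  have hcab : ∀ x : V, ⁅a, b⁆ • x = x := fun x => by
    refine S.fix_of_parts i₀ (fun f => ?_) x
    have haf : a ∈ stabilizer A f := hfix a ha f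
    have hbf : b ∈ stabilizer A f := hfix b hb f
    have hc : ⁅a, b⁆ ∈ stabilizer A f :=
      (stabilizer A f).mul_mem ((stabilizer A f).mul_mem ((stabilizer A f).mul_mem haf hbf)
        ((stabilizer A f).inv_mem haf)) ((stabilizer A f).inv_mem hbf)
    refine ⟨hc, fun y => ?_⟩
    have hpart : ∀ d ∈ stabilizer A v, part i₀ d f ∈ stabilizer (stabilizer A i₀) u := fun d hd => hst (c f) (by
      rw [mem_stabilizer_iff]
      have h2 := S.part_smul i₀ (mem_stabilizer_iff.mp hd) f
      rw [hfix d hd f] at h2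
      exact h2)
    show partHom i₀ f ⟨⁅a, b⁆, hc⟩ • y = y
    rw [show (⟨⁅a, b⁆, hc⟩ : stabilizer A f) = ⁅(⟨a, haf⟩ : stabilizer A f), ⟨b, hbf⟩⁆ from rfl, map_commutatorElement,
      commutatorElement_def, mul_smul, mul_smul, mul_smul]
    show part i₀ a f • part i₀ b f • (part i₀ a f)⁻¹ • (part i₀ b f)⁻¹ • y = y
    rw [hcomm _ (hpart a ha) _ (hpart b hb), smul_inv_smul, smul_inv_smul]
  have h2 := hcab (b • a • x)
  rw [← mul_smul b a, ← mul_smul, show ⁅a, b⁆ * (b * a) = a * b by rw [commutatorElement_def]; group, mul_smul,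
    mul_smul] at h2
  exact h2

/-- Irreducible odd groups. -/
theorem comm_irr : ∀ (n : ℕ) (A V : Type u) [Group A] [Finite A] [AddCommGroup V] [Finite V] [DistribMulAction A V],
    Nat.card A ≤ n → Odd (Nat.card A) → Odd (Nat.card V) → Irr A V → ∃ v : V, Comm V (stabilizer A v) := by
  intro n
  induction n using Nat.strong_induction_on with
  | _ n ih =>
  intro A V _ _ _ _ _ hn hodd hV hirr
  haveI : Group.IsSolvable A := Cfsg.Agent.S0205.result hodd
  obtain ⟨G, _, _, _, f, hsurj, hf, hfaith, hsol, hirrG⟩ := image_irr hirr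
  have hoddG : Odd (Nat.card G) := hodd.of_dvd_nat (Subgroup.card_dvd_of_surjective f hsurj)
  suffices hG : ∃ v : V, Comm V (stabilizer G v) by
    obtain ⟨v, hv⟩ := hG
    refine ⟨v, fun a ha b hb x => ?_⟩
    rw [← hf a, ← hf b, hv (f a) (map_stabilizer_le f hf v ⟨a, ha, rfl⟩) (f b) (map_stabilizer_le f hf v ⟨b, hb, rfl⟩),
      hf, hf]
  rcases field_or_sys hfaith hirrG with ⟨Z, hZ⟩ | ⟨ι, _, _, S, _, _, -⟩
  · exact exists_comm_field hZ hoddG hirrG hV
  obtain ⟨i₀⟩ := (inferInstance : Nonempty ι)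
  letI := S.act i₀
  have hlt : Nat.card (stabilizer G i₀) < n := by
    refine lt_of_lt_of_le (lt_of_le_of_ne (Subgroup.card_le_card_group _) fun h => ?_)
      ((Nat.card_le_card_of_surjective f hsurj).trans hn)
    obtain ⟨j, hj⟩ := exists_ne i₀
    obtain ⟨g, hg⟩ := exists_smul_eq G i₀ j
    exact hj (hg ▸ mem_stabilizer_iff.mp ((Subgroup.eq_top_of_card_eq _ h).ge (Subgroup.mem_top g)))
  exact comm_sys S i₀ hoddG hV (ih _ hlt (stabilizer G i₀) (S.blk i₀) le_rfl
    (hoddG.of_dvd_nat (Subgroup.card_subgroup_dvd_card _)) (hV.of_dvd_nat (S.blk i₀).card_addSubgroup_dvd_card)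
    (S.blk_irr hirrG i₀))

/-- A vector with abelian stabilizer. -/
theorem exists_comm (hodd : Odd (Nat.card A)) (hV : Odd (Nat.card V)) (hcr : CR A V) :
    ∃ v : V, Comm V (stabilizer A v) := by
  refine cr_rec (A := A) (fun W _ _ => Odd (Nat.card W) → ∃ v : W, Comm W (stabilizer A v)) (Nat.card V) ?_ ?_ ?_ V
    le_rfl hcr hV
  · intro W _ _ _ h0 _
    exact ⟨0, fun a _ b _ x => by rw [h0 (a • b • x), h0 (b • a • x)]⟩
  · intro W _ _ _ _ hirr hW
    exact comm_irr _ A W le_rfl hodd hW hirr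
  · intro W U U' _ _ _ _ _ _ _ _ _ f hf hU hU' hW
    have hUU : Odd (Nat.card U * Nat.card U') := by rwa [← Nat.card_prod, Nat.card_congr f.toEquiv]
    obtain ⟨u, hu⟩ := hU (Nat.odd_mul.mp hUU).1
    obtain ⟨u', hu'⟩ := hU' (Nat.odd_mul.mp hUU).2
    refine ⟨f (u, u'), fun a ha b hb x => ?_⟩
    obtain ⟨h1, h2⟩ := stab_sum f hf u u'
    obtain ⟨p, rfl⟩ := f.surjective x
    rw [← hf, ← hf, ← hf, ← hf, hu a (h1 ha) b (h1 hb) p.1, hu' a (h2 ha) b (h2 hb) p.2]

end CfsgLib.VecStab
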