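import Cfsg.Agent.Lib.VecStab.OddSmall

/-!
A vector with abelian stabilizer in the field case of odd order and odd characteristic.
-/

set_option autoImplicit false
set_option linter.style.haveILetI false
set_option linter.unusedSectionVars false

namespace CfsgLib.VecStab

open MulAction CfsgLib.OddBase
open scoped commutatorElement

universe u

theorem pow_seven : ∀ e : ℕ, 37 ≤ e → 2 * e ^ 18 < 7 ^ e := by
  intro e he
  induction e, he using Nat.le_induction with
  | base => norm_num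
  | succ n hn ih =>
    have hstep : (n + 1) ^ 18 ≤ 7 * n ^ 18 := by
      refine Nat.le_of_mul_le_mul_right ?_ (pow_pos (show 0 < 37 by norm_num) 18)
      calc (n + 1) ^ 18 * 37 ^ 18 = ((n + 1) * 37) ^ 18 := (mul_pow _ _ _).symm
        _ ≤ (n * 38) ^ 18 := Nat.pow_le_pow_left (by omega) 18
        _ = n ^ 18 * 38 ^ 18 := mul_pow _ _ _
        _ ≤ n ^ 18 * (7 * 37 ^ 18) := Nat.mul_le_mul_left _ (by norm_num)
        _ = _ := by ring
    calc 2 * (n + 1) ^ 18 ≤ 2 * (7 * n ^ 18) := Nat.mul_le_mul_left _ hstep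
      _ = 2 * n ^ 18 * 7 := by ring
      _ < 7 ^ (n + 1) := by rw [pow_succ]; exact Nat.mul_lt_mul_of_pos_right ih (by norm_num)

theorem pow_six_seven : ∀ e : ℕ, 5 ≤ e → e ^ 6 < 7 ^ e := by
  intro e he
  induction e, he using Nat.le_induction with
  | base => norm_num
  | succ n hn ih =>
    have hstep : (n + 1) ^ 6 ≤ 7 * n ^ 6 := by
      refine Nat.le_of_mul_le_mul_right ?_ (pow_pos (show 0 < 5 by norm_num) 6)
      calc (n + 1) ^ 6 * 5 ^ 6 = ((n + 1) * 5) ^ 6 := (mul_pow _ _ _).symm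
        _ ≤ (n * 6) ^ 6 := Nat.pow_le_pow_left (by omega) 6
        _ = n ^ 6 * 6 ^ 6 := mul_pow _ _ _
        _ ≤ n ^ 6 * (7 * 5 ^ 6) := Nat.mul_le_mul_left _ (by norm_num)
        _ = _ := by ring
    calc (n + 1) ^ 6 ≤ 7 * n ^ 6 := hstep
      _ < 7 * 7 ^ n := Nat.mul_lt_mul_of_pos_left ih (by norm_num)
      _ = 7 ^ (n + 1) := by ring

/-- The second inequality follows from the first. -/
theorem key_two {Q e x : ℕ} (hQ : 7 ≤ Q) (he : 11 ≤ e) (h : 125 * x ^ 3 < 64 * Q ^ e) :
    (5 * Q * x) ^ 2 < Q ^ e := by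
  refine (Nat.pow_lt_pow_iff_left (show (3 : ℕ) ≠ 0 by norm_num)).mp ?_
  have h4 : 4096 ≤ Q ^ (e - 6) := calc 4096 ≤ 7 ^ 5 := by norm_num
    _ ≤ Q ^ 5 := Nat.pow_le_pow_left hQ 5
    _ ≤ Q ^ (e - 6) := Nat.pow_le_pow_right (by omega) (by omega)
  calc ((5 * Q * x) ^ 2) ^ 3 = (125 * x ^ 3) ^ 2 * Q ^ 6 := by ring
    _ < (64 * Q ^ e) ^ 2 * Q ^ 6 :=
        Nat.mul_lt_mul_of_pos_right (Nat.pow_lt_pow_left h (by norm_num)) (pow_pos (by omega) 6)
    _ = 4096 * (Q ^ (2 * e) * Q ^ 6) := by ring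
    _ ≤ Q ^ (e - 6) * (Q ^ (2 * e) * Q ^ 6) := Nat.mul_le_mul_right _ h4
    _ = (Q ^ e) ^ 3 := by rw [← pow_mul, ← pow_add, ← pow_add]; congr 1; omega

variable {A V : Type u} [Group A] [Finite A] [AddCommGroup V] [Finite V] [DistribMulAction A V]
  {Z F L : Subgroup A}

local notation "Cz" => Subgroup.centralizer (Z : Set A)

theorem mem_ds_one {v : V} {a b : A} (ha : a ∈ stabilizer A v) (hb : b ∈ stabilizer A v) :
    ⁅a, b⁆ • v = v ∧ ⁅a, b⁆ ∈ ds (⊤ : Subgroup A) 1 := by
  refine ⟨?_, ?_⟩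
  · exact mem_stabilizer_iff.mp ((stabilizer A v).mul_mem ((stabilizer A v).mul_mem
      ((stabilizer A v).mul_mem ha hb) ((stabilizer A v).inv_mem ha)) ((stabilizer A v).inv_mem hb))
  · rw [ds_succ, ds_zero]
    exact Subgroup.commutator_mem_commutator trivial trivial

theorem comm_of_comm_one {v : V} (h : ∀ a b : A, a ∈ stabilizer A v → b ∈ stabilizer A v → ⁅a, b⁆ = 1) :
    Comm V (stabilizer A v) := fun a ha b hb x => by
  rw [← mul_smul, ← mul_smul, commutatorElement_eq_one_iff_mul_comm.mp (h a b ha hb)]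

section Frame
variable (hf : Frame A V Z F L)
include hf

theorem fc_section_three (hodd : Odd (Nat.card A)) {g : A} (hg : g ∈ F) (hgZ : g ∉ Z) :
    fc V g ^ 3 ≤ Nat.card V := by
  obtain ⟨y, hy, hne⟩ : ∃ y ∈ F, ⁅y, g⁆ ≠ 1 := by
    by_contra hcon
    push Not at hcon
    exact hgZ (hf.centre_F hg fun y hy => by rw [← commutatorElement_inv, hcon y hy, inv_one])
  refine hf.base.fc_pow_three_of_comm hodd (hf.cent hg) (hf.cent hy) ?_
    fun e1 => hne (by rw [commutatorElement_def, e1, mul_inv_cancel])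
  have e2 : g⁻¹ * (y * g * y⁻¹) = g⁻¹ * ⁅y, g⁆ * g := by simp [commutatorElement_def, mul_assoc]
  rw [e2]
  simpa using hf.base.normal.conj_mem _ (hf.comm y hy g hg) g⁻¹

theorem fc_linear_three (hodd : Odd (Nat.card A)) {g : A} (hgC : g ∈ Cz) (hgF : g ∉ F) :
    fc V g ^ 3 ≤ Nat.card V ^ 2 := by
  obtain ⟨y, hy, hne⟩ : ∃ y ∈ F, ⁅g, y⁆ ∉ Z := by
    by_contra hcon
    push Not at hcon
    exact hgF (hf.ker g hgC hcon)
  have hcF : y * g * y⁻¹ * g⁻¹ ∈ F := by
    rw [show y * g * y⁻¹ * g⁻¹ = y * (g * y⁻¹ * g⁻¹) by group]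
    exact F.mul_mem hy (hf.normal.conj_mem _ (F.inv_mem hy) g)
  have hcZ : y * g * y⁻¹ * g⁻¹ ∉ Z := fun hcZ => hne (by
    have h1 := Z.inv_mem hcZ
    rwa [show (y * g * y⁻¹ * g⁻¹)⁻¹ = ⁅g, y⁆ by rw [commutatorElement_def]; group] at h1)
  have h2 : fc V g ^ 2 ≤ Nat.card V * fc V (y * g * y⁻¹ * g⁻¹) := Setup.fc_two_conj (V := V)
  refine (Nat.pow_le_pow_iff_left (show (2 : ℕ) ≠ 0 by norm_num)).mp ?_
  calc (fc V g ^ 3) ^ 2 = (fc V g ^ 2) ^ 3 := by ring
    _ ≤ (Nat.card V * fc V (y * g * y⁻¹ * g⁻¹)) ^ 3 := Nat.pow_le_pow_left h2 3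
    _ = Nat.card V ^ 3 * fc V (y * g * y⁻¹ * g⁻¹) ^ 3 := mul_pow _ _ _
    _ ≤ Nat.card V ^ 3 * Nat.card V := Nat.mul_le_mul_left _ (fc_section_three hf hodd hcF hcZ)
    _ = (Nat.card V ^ 2) ^ 2 := by ring

omit [Finite A] in
theorem exists_avoid {T : Finset A} (hT : T.Nonempty) (N : ℕ) (hN : ∀ g ∈ T, fc V g ≤ N)
    (hlt : T.card * N < Nat.card V) : ∃ v : V, v ≠ 0 ∧ ∀ g ∈ T, g • v ≠ v := by
  classical
  haveI : Fintype V := Fintype.ofFinite _
  let B : Finset V := T.biUnion fun g => Finset.univ.filter fun x => g • x = x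
  have hB : B.card ≤ T.card * N := by
    refine Finset.card_biUnion_le.trans ((Finset.sum_le_card_nsmul _ _ N fun g hg => ?_).trans le_rfl)
    rw [← Fintype.card_subtype, ← Nat.card_eq_fintype_card]
    exact hN g hg
  obtain ⟨v, hv⟩ : ∃ v, v ∉ B := by
    by_contra hcon
    push Not at hcon
    rw [Finset.eq_univ_iff_forall.mpr hcon, Finset.card_univ, ← Nat.card_eq_fintype_card] at hB
    omega
  have hv' : ∀ g ∈ T, g • v ≠ v := fun g hg e =>
    hv (Finset.mem_biUnion.mpr ⟨g, hg, Finset.mem_filter.mpr ⟨Finset.mem_univ _, e⟩⟩)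
  obtain ⟨g, hg⟩ := hT
  exact ⟨v, fun e => hv' g hg (by rw [e, smul_zero]), hv'⟩

theorem card_F_eq : Nat.card F = Z.relIndex L * Z.relIndex L * Nat.card Z := by
  haveI := hf.base.normal
  have h3 := (Z.subgroupOf F).card_eq_card_quotient_mul_card_subgroup
  rwa [show Nat.card (F ⧸ Z.subgroupOf F) = Z.relIndex F from rfl, hf.sq_index,
    Nat.card_congr (Subgroup.subgroupOfEquivOfLe hf.le).toEquiv] at h3

theorem exists_free_F (hodd : Odd (Nat.card A)) {Q : ℕ} (hQ : Nat.card (genRing (V := V) Z) = Q) (hQ7 : 7 ≤ Q)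
    (he : 3 ≤ Z.relIndex L) (hV : Q ^ Z.relIndex L ≤ Nat.card V) :
    ∃ v : V, v ≠ 0 ∧ ∀ a ∈ F, a • v = v → a = 1 := by
  classical
  haveI : Fintype A := Fintype.ofFinite _
  set e := Z.relIndex L with hedef
  let T : Finset A := Finset.univ.filter fun g => g ∈ F ∧ g ∉ Z
  have hT : T.card = (e * e - 1) * Nat.card Z := by
    have h1 : (Finset.univ.filter fun g => g ∈ F) = T ∪ Finset.univ.filter fun g => g ∈ Z := by
      ext g
      simp only [T, Finset.mem_filter, Finset.mem_union, Finset.mem_univ, true_and]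
      exact ⟨fun h => (em (g ∈ Z)).elim Or.inr fun h' => Or.inl ⟨h, h'⟩, fun h => h.elim And.left fun h' => hf.le h'⟩
    have h2 := congrArg Finset.card h1
    have hFc : (Finset.univ.filter fun g => g ∈ F).card = Nat.card F := by
      rw [Nat.card_eq_fintype_card, Fintype.card_subtype]
    have hZc : (Finset.univ.filter fun g => g ∈ Z).card = Nat.card Z := by
      rw [Nat.card_eq_fintype_card, Fintype.card_subtype]
    rw [Finset.card_union_of_disjoint (Finset.disjoint_filter.mpr fun g _ h h' => h.2 h'), hFc, hZc, card_F_eq hf] at h2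
    rw [Nat.sub_mul, one_mul]
    simp only [T] at h2 ⊢
    generalize e * e * Nat.card Z = X at h2 ⊢
    generalize Nat.card Z = Y at h2 ⊢
    omega
  have hTne : T.Nonempty := Finset.card_pos.mp (by
    rw [hT]
    have : 3 * 3 ≤ e * e := Nat.mul_le_mul he he
    exact Nat.mul_pos (by omega) Nat.card_pos)
  let N := T.sup fun g => fc V g
  have hN : N ^ 3 ≤ Nat.card V := by
    obtain ⟨g, hg, hge⟩ := Finset.exists_mem_eq_sup T hTne fun g => fc V g
    show (T.sup fun g => fc V g) ^ 3 ≤ _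
    rw [hge]
    obtain ⟨-, h1, h2⟩ := Finset.mem_filter.mp hg
    exact fc_section_three hf hodd h1 h2
  have hZ : Nat.card Z < Q := hQ ▸ card_lt_field hf.base
  have hnum : ((e * e - 1) * Nat.card Z) ^ 3 < Nat.card V ^ 2 := by
    refine lt_of_lt_of_le ?_ (Nat.pow_le_pow_left hV 2)
    rcases (show e = 3 ∨ e = 4 ∨ 5 ≤ e by omega) with h3 | h4 | h5
    · rw [h3, ← pow_mul, show 3 * 2 = 2 * 3 by rfl, pow_mul]
      refine Nat.pow_lt_pow_left ?_ (by norm_num)
      show 8 * Nat.card Z < Q ^ 2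
      nlinarith
    · obtain ⟨k, hk⟩ := hodd.of_dvd_nat ((Subgroup.relIndex_dvd_card Z L).trans (Subgroup.card_subgroup_dvd_card L))
      omega
    · have h6 : e ^ 6 < Q ^ e := (pow_six_seven e h5).trans_le (Nat.pow_le_pow_left hQ7 e)
      calc ((e * e - 1) * Nat.card Z) ^ 3 ≤ (e * e * Q) ^ 3 :=
            Nat.pow_le_pow_left (Nat.mul_le_mul (Nat.sub_le _ _) hZ.le) 3
        _ = e ^ 6 * Q ^ 3 := by ring
        _ < Q ^ e * Q ^ 3 := Nat.mul_lt_mul_of_pos_right h6 (pow_pos (by omega) 3)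
        _ ≤ Q ^ e * Q ^ e := Nat.mul_le_mul_left _ (Nat.pow_le_pow_right (by omega) he)
        _ = (Q ^ e) ^ 2 := (sq _).symm
  have hlt : T.card * N < Nat.card V := lt_of_cubes (by
    calc (T.card * N) ^ 3 = T.card ^ 3 * N ^ 3 := mul_pow _ _ _
      _ ≤ T.card ^ 3 * Nat.card V := Nat.mul_le_mul_left _ hN
      _ < Nat.card V ^ 2 * Nat.card V := Nat.mul_lt_mul_of_pos_right (by rw [hT]; exact hnum) Nat.card_pos
      _ = Nat.card V ^ 3 := by ring)
  obtain ⟨v, hv0, hv⟩ := exists_avoid hf hTne N (fun g hg => Finset.le_sup (f := fun g => fc V g) hg) hlt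
  refine ⟨v, hv0, fun a ha hav => ?_⟩
  by_cases haZ : a ∈ Z
  · by_contra h1
    exact hv0 (hf.base.fx_center haZ h1 hav)
  · exact absurd hav (hv a (Finset.mem_filter.mpr ⟨Finset.mem_univ _, ha, haZ⟩))

theorem exists_free_C [Z.Normal] [F.Normal] (hodd : Odd (Nat.card A)) {H : ℕ}
    (hH : Nat.card ((Cz : Subgroup A).map (phi Z F)) ≤ H) (he : 2 ≤ Z.relIndex L) {Q : ℕ}
    (hQ : Nat.card (genRing (V := V) Z) = Q)
    (h1 : 125 * (H * (Z.relIndex L * Z.relIndex L)) ^ 3 < 64 * Nat.card V)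
    (h2 : (5 * Q * (H * (Z.relIndex L * Z.relIndex L))) ^ 2 < Nat.card V) :
    ∃ v : V, v ≠ 0 ∧ ∀ a ∈ (Cz : Subgroup A), a • v = v → a = 1 := by
  classical
  haveI : Fintype A := Fintype.ofFinite _
  haveI : Fintype V := Fintype.ofFinite _
  set w := Z.relIndex L * Z.relIndex L with hw
  set W := H * w with hW
  let Small : Finset A := Finset.univ.filter fun g => g ∈ (Cz : Subgroup A) ∧ g ∉ Z ∧ fc V g ^ 2 ≤ Nat.card V
  let Big : Finset A := Finset.univ.filter fun g => g ∈ (Cz : Subgroup A) ∧ g ∉ Z ∧ Nat.card V < fc V g ^ 2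
  have hFcard := card_F_eq hf
  have hCcard : Nat.card (Cz : Subgroup A) ≤ Q * W :=
    calc Nat.card (Cz : Subgroup A) ≤ H * Nat.card F := card_C_le hf hH
      _ ≤ H * (w * Q) := Nat.mul_le_mul_left _ (by rw [hFcard]; exact Nat.mul_le_mul_left _ (hQ ▸ (card_lt_field hf.base).le))
      _ = Q * W := by rw [hW]; ring
  have hS : Small.card ≤ Q * W := by
    refine le_trans ?_ hCcard
    rw [Nat.card_eq_fintype_card, Fintype.card_subtype]
    exact Finset.card_le_card fun g hg => Finset.mem_filter.mpr ⟨Finset.mem_univ _, (Finset.mem_filter.mp hg).2.1⟩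
  have hB : Big.card ≤ W := by
    have hinj : Set.InjOn (QuotientGroup.mk : A → A ⧸ Z) Big := fun g hg g' hg' e => by
      by_contra hne
      have hz : g⁻¹ * g' ∈ Z := QuotientGroup.eq.mp e
      have h := fc_two (V := V) hf.base (g := g) hz (fun h1 => hne (inv_mul_eq_one.mp h1))
      rw [mul_inv_cancel_left] at h
      have k := Nat.mul_lt_mul_of_lt_of_lt (Finset.mem_filter.mp hg).2.2.2 (Finset.mem_filter.mp hg').2.2.2
      have := Nat.mul_le_mul h h
      nlinarith
    rw [← Finset.card_image_of_injOn hinj]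
    have hsub : ∀ q ∈ Big.image (QuotientGroup.mk : A → A ⧸ Z), q ∈ (Cz : Subgroup A).map (QuotientGroup.mk' Z) := by
      intro q hq
      obtain ⟨g, hg, rfl⟩ := Finset.mem_image.mp hq
      exact ⟨g, (Finset.mem_filter.mp hg).2.1, rfl⟩
    calc (Big.image (QuotientGroup.mk : A → A ⧸ Z)).card
          ≤ Nat.card ((Cz : Subgroup A).map (QuotientGroup.mk' Z)) := by
          rw [Nat.card_eq_fintype_card, Fintype.card_subtype]
          exact Finset.card_le_card fun q hq => Finset.mem_filter.mpr ⟨Finset.mem_univ _, hsub q hq⟩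
      _ ≤ W := by
        refine Nat.le_of_mul_le_mul_right ?_ (Nat.card_pos (α := Z))
        have h3 := ((QuotientGroup.mk' Z).comp (Cz : Subgroup A).subtype).ker.card_eq_card_quotient_mul_card_subgroup
        have h4 : ((QuotientGroup.mk' Z).comp (Cz : Subgroup A).subtype).ker = Z.subgroupOf Cz := by
          ext x
          exact QuotientGroup.eq_one_iff _
        rw [Nat.card_congr (QuotientGroup.quotientKerEquivRange _).toEquiv, MonoidHom.range_comp,
          Subgroup.range_subtype, h4, Nat.card_congr (Subgroup.subgroupOfEquivOfLe hf.base.le_centralizer).toEquiv] at h3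
        rw [← h3]
        calc Nat.card (Cz : Subgroup A) ≤ H * Nat.card F := card_C_le hf hH
          _ = W * Nat.card Z := by rw [hFcard, hW]; ring
  let N := Small.sup fun g => fc V g
  let M := Big.sup fun g => fc V g
  have hN : N ^ 2 ≤ Nat.card V := by
    rcases Small.eq_empty_or_nonempty with e | hne
    · simp [N, e]
    · obtain ⟨g, hg, hge⟩ := Finset.exists_mem_eq_sup Small hne fun g => fc V g
      show (Small.sup fun g => fc V g) ^ 2 ≤ _
      rw [hge]
      exact (Finset.mem_filter.mp hg).2.2.2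
  have hM : M ^ 3 ≤ Nat.card V ^ 2 := by
    rcases Big.eq_empty_or_nonempty with e | hne
    · simp [M, e]
    · obtain ⟨g, hg, hge⟩ := Finset.exists_mem_eq_sup Big hne fun g => fc V g
      show (Big.sup fun g => fc V g) ^ 3 ≤ _
      rw [hge]
      obtain ⟨-, hgC, hgZ, hbig⟩ := Finset.mem_filter.mp hg
      exact fc_linear_three hf hodd hgC fun hgF => absurd (fc_section hf hgF hgZ) (not_le.mpr hbig)
  have hsN : 5 * (Small.card * N) < Nat.card V := by
    refine (Nat.pow_lt_pow_iff_left (show (2 : ℕ) ≠ 0 by norm_num)).mp ?_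
    calc (5 * (Small.card * N)) ^ 2 ≤ (5 * (Q * W * N)) ^ 2 :=
          Nat.pow_le_pow_left (Nat.mul_le_mul_left _ (Nat.mul_le_mul_right _ hS)) 2
      _ = (5 * Q * W) ^ 2 * N ^ 2 := by ring
      _ ≤ (5 * Q * W) ^ 2 * Nat.card V := Nat.mul_le_mul_left _ hN
      _ < Nat.card V * Nat.card V := Nat.mul_lt_mul_of_pos_right h2 Nat.card_pos
      _ = Nat.card V ^ 2 := (sq _).symm
  have hbM : 5 * (Big.card * M) < 4 * Nat.card V := lt_of_cubes (by
    calc (5 * (Big.card * M)) ^ 3 ≤ (5 * (W * M)) ^ 3 :=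
          Nat.pow_le_pow_left (Nat.mul_le_mul_left _ (Nat.mul_le_mul_right _ hB)) 3
      _ = 125 * W ^ 3 * M ^ 3 := by ring
      _ ≤ 125 * W ^ 3 * Nat.card V ^ 2 := Nat.mul_le_mul_left _ hM
      _ < 64 * Nat.card V * Nat.card V ^ 2 := Nat.mul_lt_mul_of_pos_right h1 (pow_pos Nat.card_pos 2)
      _ = (4 * Nat.card V) ^ 3 := by ring)
  let fixS : A → Finset V := fun g => Finset.univ.filter fun x => g • x = x
  have hfix : ∀ g, (fixS g).card = fc V g := fun g => by
    rw [← Fintype.card_subtype, ← Nat.card_eq_fintype_card]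
    rfl
  have hcov : ((Small ∪ Big).biUnion fixS).card < Nat.card V := by
    rw [Finset.union_biUnion]
    refine lt_of_le_of_lt (Finset.card_union_le _ _) ?_
    have k1 : (Small.biUnion fixS).card ≤ Small.card * N := Finset.card_biUnion_le.trans
      (Finset.sum_le_card_nsmul _ _ N fun g hg => (hfix g).le.trans (Finset.le_sup (f := fun g => fc V g) hg))
    have k2 : (Big.biUnion fixS).card ≤ Big.card * M := Finset.card_biUnion_le.trans
      (Finset.sum_le_card_nsmul _ _ M fun g hg => (hfix g).le.trans (Finset.le_sup (f := fun g => fc V g) hg))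
    omega
  obtain ⟨v, hv⟩ : ∃ v, v ∉ (Small ∪ Big).biUnion fixS := by
    by_contra hcon
    push Not at hcon
    rw [Finset.eq_univ_iff_forall.mpr hcon, Finset.card_univ, ← Nat.card_eq_fintype_card] at hcov
    omega
  have hout : ∀ a ∈ (Cz : Subgroup A), a ∉ Z → a • v ≠ v := fun a ha haZ hav => by
    refine hv (Finset.mem_biUnion.mpr ⟨a, ?_, Finset.mem_filter.mpr ⟨Finset.mem_univ _, hav⟩⟩)
    rcases le_or_gt (fc V a ^ 2) (Nat.card V) with hle | hlt
    · exact Finset.mem_union_left _ (Finset.mem_filter.mpr ⟨Finset.mem_univ _, ha, haZ, hle⟩)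
    · exact Finset.mem_union_right _ (Finset.mem_filter.mpr ⟨Finset.mem_univ _, ha, haZ, hlt⟩)
  have hv0 : v ≠ 0 := fun hv0 => by
    obtain ⟨g, hgF, hgZ⟩ : ∃ g ∈ F, g ∉ Z := by
      by_contra hcon
      push Not at hcon
      have h1' := hf.sq_index
      rw [Subgroup.relIndex_eq_one.mpr hcon] at h1'
      nlinarith
    exact hout g (hf.cent hgF) hgZ (by rw [hv0, smul_zero])
  refine ⟨v, hv0, fun a ha hav => ?_⟩
  by_cases haZ : a ∈ Z
  · by_contra h1
    exact hv0 (hf.base.fx_center haZ h1 hav)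
  · exact absurd hav (hout a ha haZ)

theorem comm_of_image (hS : ∀ [Z.Normal] [F.Normal] (a b : A), phi Z F a * phi Z F b = phi Z F b * phi Z F a)
    {v : V} (hv : ∀ a ∈ F, a • v = v → a = 1) : Comm V (stabilizer A v) := by
  haveI := hf.base.normal
  haveI := hf.normal
  refine comm_of_comm_one fun a b ha hb => ?_
  obtain ⟨h1, h2⟩ := mem_ds_one ha hb
  refine hv _ (phi_ker_cent hf (ds_one_le_cent hf.base h2) ?_) h1
  rw [map_commutatorElement, commutatorElement_eq_one_iff_mul_comm]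
  exact hS a b

end Frame

/-- The field case. -/
theorem exists_comm_field (h : Setup A V Z) (hodd : Odd (Nat.card A)) (hirr : Irr A V) (hVodd : Odd (Nat.card V)) :
    ∃ v : V, Comm V (stabilizer A v) := by
  classical
  haveI : Group.IsSolvable A := Cfsg.Agent.S0205.result hodd
  obtain ⟨v₀, hv₀⟩ := hirr.1
  rcases trivial_or_frame h with hCZ | ⟨F, L, hf, he2, hQ3, hV⟩
  · exact ⟨v₀, (len_trivial h hCZ).2 v₀ hv₀⟩
  haveI := hf.base.normal
  haveI := hf.normal
  letI := sectionComm hf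
  set e := Z.relIndex L with hedef
  set Q := Nat.card (genRing (V := V) Z) with hQdef
  have heodd : Odd e := hodd.of_dvd_nat ((Subgroup.relIndex_dvd_card Z L).trans (Subgroup.card_subgroup_dvd_card L))
  have he3 : 3 ≤ e := by
    obtain ⟨k, hk⟩ := heodd
    omega
  obtain ⟨p, hp, hpx⟩ := exists_char hirr
  have hp2 : p ≠ 2 := by
    rintro rfl
    have h1 : addOrderOf v₀ ∣ 2 := addOrderOf_dvd_of_nsmul_eq_zero (hpx v₀)
    rcases (Nat.dvd_prime Nat.prime_two).mp h1 with h' | h'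
    · exact hv₀ (AddMonoid.addOrderOf_eq_one_iff.mp h')
    · have := hVodd.of_dvd_nat (h' ▸ addOrderOf_dvd_natCard v₀)
      exact absurd this (by decide)
  have hQodd : Q % 2 = 1 := by
    by_contra hcon
    exact hp2 (prime_of_dvd_field (Z := Z) hp hpx Nat.prime_two (Nat.dvd_of_mod_eq_zero (by omega))).symm
  have hprime : ∀ s : ℕ, s.Prime → s ∣ e → Q % s = 1 := fun s hs hd => by
    obtain ⟨z, hz, hzo⟩ := hf.prime_dvd hs (by rw [hf.sq_index]; exact dvd_mul_of_dvd_left hd e)
    letI := h.field.toField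
    haveI : Finite (AddMonoid.End V) := Finite.of_injective _ DFunLike.coe_injective
    haveI : Fintype (genRing (V := V) Z) := Fintype.ofFinite _
    let ζu := (zeta (V := V) Z).toHomUnits
    have hinj : Function.Injective ζu := fun a b e => zeta_injective h (congrArg Units.val e)
    have h1 : s ∣ Nat.card (genRing (V := V) Z)ˣ := by
      rw [← hzo, ← Subgroup.orderOf_mk z hz, ← orderOf_injective ζu hinj]
      exact orderOf_dvd_natCard _
    rw [Nat.card_units, ← hQdef] at h1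
    obtain ⟨c, hc⟩ := h1
    rw [show Q = s * c + 1 by omega, Nat.mul_add_mod, Nat.mod_eq_of_lt hs.one_lt]
  have hQ7 : 7 ≤ Q := by
    obtain ⟨s, hs, hd⟩ := Nat.exists_prime_and_dvd (n := e) (by omega)
    have h1 := hprime s hs hd
    have h2 : s % 2 = 1 := Nat.odd_iff.mp (heodd.of_dvd_nat hd)
    have := hs.two_le
    have h3 := Nat.div_add_mod Q s
    rw [h1] at h3
    generalize Q / s = k at h3
    rcases (show k = 0 ∨ k = 1 ∨ 2 ≤ k by omega) with rfl | rfl | hk
    · rw [mul_zero] at h3; omega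
    · rw [mul_one] at h3; omega
    · have := Nat.mul_le_mul_left s hk
      omega
  obtain ⟨v, hv0, hvF⟩ := exists_free_F hf hodd hQdef.symm hQ7 he3 hV
  set S := (phi Z F).range with hSdef
  set H := (Cz : Subgroup A).map (phi Z F) with hHdef
  have hHS : H ≤ S := Subgroup.map_le_range _ _
  have hSodd : Odd (Nat.card S) := hodd.of_dvd_nat (Subgroup.card_range_dvd _)
  have hW : Nat.card (Additive (F ⧸ Z.subgroupOf F)) = e * e := by
    rw [Nat.card_congr Additive.toMul, show Nat.card (F ⧸ Z.subgroupOf F) = Z.relIndex F from rfl, hf.sq_index]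
  -- a commutative image
  by_cases hab : ∀ a b : A, phi Z F a * phi Z F b = phi Z F b * phi Z F a
  · exact ⟨v, comm_of_image hf hab hvF⟩
  have hsq : ¬ Squarefree e := fun hsq => hab fun a b => by
    letI := addAct S
    have hc := comm_sqfree (A := S) (V := Additive (F ⧸ Z.subgroupOf F)) hSodd (cr_of_crAut S (phi_cr hf)) hsq hW.dvd
    exact MulEquiv.ext fun x => congrArg Additive.toMul
      (hc ⟨_, a, rfl⟩ trivial ⟨_, b, rfl⟩ trivial (Additive.ofMul x))
  have key : ∀ H₀, Nat.card H ≤ H₀ → 125 * (H₀ * (e * e)) ^ 3 < 64 * Q ^ e →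
      (5 * Q * (H₀ * (e * e))) ^ 2 < Q ^ e → ∃ v : V, Comm V (stabilizer A v) := fun H₀ hH h1 h2 => by
    obtain ⟨v, hv0, hv⟩ := exists_free_C hf hodd hH (by omega) hQdef.symm
      (h1.trans_le (Nat.mul_le_mul_left _ hV)) (h2.trans_le hV)
    exact ⟨v, comm_of_comm_one fun a b ha hb =>
      hv _ (ds_one_le_cent h (mem_ds_one ha hb).2) (mem_ds_one ha hb).1⟩
  have hH4 : Nat.card H ≤ e * e * (e * e) := by
    refine (Nat.card_le_card_of_injective _ (Subgroup.inclusion_injective hHS)).trans ?_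
    refine (card_le_of_pair S (phi_cr hf) (ih_all _) hSodd).trans (le_of_eq ?_)
    rw [show Nat.card (F ⧸ Z.subgroupOf F) = Z.relIndex F from rfl, hf.sq_index]
  have hexp : ∀ M, Z.relIndex F = M * M → ∀ x ∈ F, x ^ M ∈ Z := fun M hM =>
    hf.exponent_halve M fun x hx => by
      rw [← hM]
      have h1 : (QuotientGroup.mk (⟨x, hx⟩ : F) : F ⧸ Z.subgroupOf F) ^ Z.relIndex F = 1 := pow_card_eq_one'
      rw [← QuotientGroup.mk_pow, QuotientGroup.eq_one_iff] at h1
      exact h1
  have hup : ∀ (k M : ℕ), k ∣ M * M → (∀ x ∈ F, x ^ k ∈ Z) → ∀ x ∈ F, x ^ M ∈ Z := fun k M hd hk =>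
    hf.exponent_halve M fun x hx => by
      obtain ⟨c, hc⟩ := hd
      rw [hc, pow_mul]
      exact pow_mem (hk x hx) c
  have hcase : e = 9 ∨ e = 25 ∨ e = 27 ∨ 37 ≤ e := by
    rcases (show e ≤ 36 ∨ 37 ≤ e by omega) with h36 | h37
    · have h2 := Nat.odd_iff.mp heodd
      interval_cases e <;> first | omega | (exact absurd (by decide +kernel) hsq)
    · exact Or.inr (Or.inr (Or.inr h37))
  have hQ13 : 3 ∣ e → Q = 7 ∨ 13 ≤ Q := fun h3 => by
    have h1 := hprime 3 Nat.prime_three h3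
    omega
  have hA : Q = 7 → ∀ g : A, g ∈ Cz := fun hQ' => by
    obtain ⟨q, hq, hd⟩ := Nat.exists_prime_and_dvd (n := Q) (by omega)
    have h7 : p = 7 := by
      rw [prime_of_dvd_field (Z := Z) hp hpx hq hd, hQ'] at hd
      exact ((Nat.prime_dvd_prime_iff_eq hp (by norm_num)).mp hd)
    exact cent_of_small h hodd hp hpx (by rw [← hQdef, hQ', h7]; norm_num)
  rcases hcase with he | he | he | he
  · -- index nine
    have hwe : Z.relIndex F = 81 := by rw [hf.sq_index, ← hedef, he]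
    have hx3 : ∀ x ∈ F, x ^ 3 ∈ Z := hup 9 3 dvd_rfl (hexp 9 hwe)
    have hH5 : Nat.card H ≤ 5 := by
      refine bound_81 (show Nat.card (F ⧸ Z.subgroupOf F) = 81 from hwe) (fun x => ?_) (phi_cr hf) hHS ?_
        (hSodd.of_dvd_nat (Subgroup.card_dvd_of_le hHS)) fun g hg => ?_
      · obtain ⟨y, rfl⟩ := QuotientGroup.mk_surjective x
        rw [← QuotientGroup.mk_pow, QuotientGroup.eq_one_iff]
        exact hx3 y y.2
      · rintro _ ⟨a, rfl⟩ _ ⟨c, hc, rfl⟩
        exact ⟨a * c * a⁻¹, (centralizer_normal h.normal).conj_mem c hc a, by simp⟩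
      · obtain ⟨c, hc, rfl⟩ := hg
        exact no13 hf hwe hx3 hc
    rcases hQ13 (by rw [he]; norm_num) with h7 | h13
    · exfalso
      refine hab fun a b => ?_
      have ha : phi Z F a ∈ H := ⟨a, hA h7 a, rfl⟩
      have hb : phi Z F b ∈ H := ⟨b, hA h7 b, rfl⟩
      have hodd5 := hSodd.of_dvd_nat (Subgroup.card_dvd_of_le hHS)
      haveI : IsCyclic H := by
        rcases (show Nat.card H = 1 ∨ Nat.card H = 3 ∨ Nat.card H = 5 by
          obtain ⟨k, hk⟩ := hodd5
          omega) with h' | h' | h'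
        · haveI := (Nat.card_eq_one_iff_unique.mp h').1; infer_instance
        · exact isCyclic_of_prime_card (hp := ⟨Nat.prime_three⟩) h'
        · exact isCyclic_of_prime_card (hp := ⟨Nat.prime_five⟩) h'
      letI := IsCyclic.commGroup (α := H)
      exact congrArg Subtype.val (mul_comm (⟨_, ha⟩ : H) ⟨_, hb⟩)
    · refine key 5 hH5 ?_ ?_
      · rw [he]
        have : 13 ^ 9 ≤ Q ^ 9 := Nat.pow_le_pow_left h13 9
        norm_num at this ⊢
        omega
      · rw [he]
        calc (5 * Q * (5 * (9 * 9))) ^ 2 = 4100625 * Q ^ 2 := by ring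
          _ < 13 ^ 7 * Q ^ 2 := Nat.mul_lt_mul_of_pos_right (by norm_num) (pow_pos (by omega) 2)
          _ ≤ Q ^ 7 * Q ^ 2 := Nat.mul_le_mul_right _ (Nat.pow_le_pow_left h13 7)
          _ = Q ^ 9 := by ring
  · -- index twenty-five
    have h1 : 125 * (625 * 625 * (e * e)) ^ 3 < 64 * Q ^ e := by
      have h5 := hprime 5 Nat.prime_five (by rw [he]; norm_num)
      have : 11 ^ 25 ≤ Q ^ 25 := Nat.pow_le_pow_left (by omega) 25
      rw [he]
      norm_num at this ⊢
      omega
    exact key (625 * 625) (hH4.trans (by rw [he])) h1 (key_two hQ7 (by omega) h1)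
  · -- index twenty-seven
    rcases hQ13 (by rw [he]; norm_num) with h7 | h13
    · have hwe : Z.relIndex F = 27 * 27 := by rw [hf.sq_index, ← hedef, he]
      have hx3 : ∀ x ∈ F, x ^ 3 ∈ Z := hup 9 3 dvd_rfl (hup 27 9 (by norm_num) (hexp 27 hwe))
      have hH : Nat.card H ≤ 33215 := by
        refine (Nat.card_le_card_of_injective _ (Subgroup.inclusion_injective hHS)).trans ?_
        letI := addAct S
        have hfaith : FaithfulSMul S (Additive (F ⧸ Z.subgroupOf F)) :=
          ⟨fun h => Subtype.ext (MulEquiv.ext fun x => congrArg Additive.toMul (h (Additive.ofMul x)))⟩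
        have h16 := sixteen (A := S) (V := Additive (F ⧸ Z.subgroupOf F)) hSodd hfaith (cr_of_crAut S (phi_cr hf))
          fun x => Additive.toMul.injective (by
            obtain ⟨y, hy⟩ := QuotientGroup.mk_surjective (Additive.toMul x)
            show Additive.toMul x ^ 3 = 1
            rw [← hy, ← QuotientGroup.mk_pow, QuotientGroup.eq_one_iff]
            exact hx3 y y.2)
        rw [hW, he] at h16
        omega
      have h1 : 125 * (33215 * (e * e)) ^ 3 < 64 * Q ^ e := by rw [he, h7]; norm_num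
      exact key 33215 hH h1 (key_two hQ7 (by omega) h1)
    · have h1 : 125 * (729 * 729 * (e * e)) ^ 3 < 64 * Q ^ e := by
        have : 13 ^ 27 ≤ Q ^ 27 := Nat.pow_le_pow_left h13 27
        rw [he]
        norm_num at this ⊢
        omega
      exact key (729 * 729) (hH4.trans (by rw [he])) h1 (key_two hQ7 (by omega) h1)
  · have h1 : 125 * (e * e * (e * e) * (e * e)) ^ 3 < 64 * Q ^ e :=
      calc 125 * (e * e * (e * e) * (e * e)) ^ 3 ≤ 64 * (2 * e ^ 18) := by
            rw [show (e * e * (e * e) * (e * e)) ^ 3 = e ^ 18 by ring]; omega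
        _ < 64 * 7 ^ e := Nat.mul_lt_mul_of_pos_left (pow_seven e he) (by norm_num)
        _ ≤ 64 * Q ^ e := Nat.mul_le_mul_left _ (Nat.pow_le_pow_left hQ7 e)
    exact key _ hH4 h1 (key_two hQ7 (by omega) h1)

end CfsgLib.VecStab
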