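import Cfsg.Agent.Lib.VecStab.Main
import Cfsg.Agent.Lib.OddBase.Top

/-!
Groups of odd order: small fields, small modules and a bound from regular pairs.
-/

set_option autoImplicit false
set_option linter.style.haveILetI false
set_option linter.unusedSectionVars false

namespace CfsgLib.VecStab

open MulAction CfsgLib.OddBase
open scoped commutatorElement

universe u

variable {A V : Type u} [Group A] [Finite A] [AddCommGroup V] [Finite V] [DistribMulAction A V]
  {Z F L : Subgroup A}

local notation "Cz" => Subgroup.centralizer (Z : Set A)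

omit [Finite A] in
/-- The exponent of the module is the characteristic of the field. -/
theorem prime_of_dvd_field {s q : ℕ} (hs : s.Prime) (hsx : ∀ x : V, s • x = 0) (hq : q.Prime)
    (hd : q ∣ Nat.card (genRing (V := V) Z)) : q = s := by
  haveI := Fact.mk hq
  haveI : Finite (AddMonoid.End V) := Finite.of_injective _ DFunLike.coe_injective
  obtain ⟨r, hr⟩ := exists_prime_addOrderOf_dvd_card' (G := genRing (V := V) Z) q hd
  have h1 : addOrderOf r ∣ s := addOrderOf_dvd_of_nsmul_eq_zero (Subtype.ext (DFunLike.ext _ _ fun x => by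
    show s • (r : AddMonoid.End V) x = 0
    exact hsx _))
  rwa [hr, Nat.prime_dvd_prime_iff_eq hq hs] at h1

/-- An odd group induces no automorphism on a field of degree at most two over its prime field. -/
theorem cent_of_small (h : Setup A V Z) (hodd : Odd (Nat.card A)) {s : ℕ} (hs : s.Prime) (hsx : ∀ x : V, s • x = 0)
    (hK : Nat.card (genRing (V := V) Z) ≤ s ^ 2) : ∀ g : A, g ∈ Cz := by
  haveI := Fact.mk hs
  haveI := h.normal
  haveI : Finite (AddMonoid.End V) := Finite.of_injective _ DFunLike.coe_injective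
  let K := genRing (V := V) Z
  letI : Field K := h.field.toField
  have hs0 : (s : K) = 0 := by
    rw [← nsmul_one]
    refine Subtype.ext (DFunLike.ext _ _ fun x => ?_)
    show s • ((1 : K) : AddMonoid.End V) x = 0
    exact hsx _
  haveI : CharP K s := (CharP.charP_iff_prime_eq_zero hs).mpr hs0
  letI : Algebra (ZMod s) K := ZMod.algebra K s
  have hk : Module.finrank (ZMod s) K ≤ 2 := by
    have h1 := Module.natCard_eq_pow_finrank (K := ZMod s) (V := K)
    rw [Nat.card_zmod] at h1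
    exact (Nat.pow_le_pow_iff_right hs.one_lt).mp (h1.symm.le.trans hK)
  have hpos : 0 < Module.finrank (ZMod s) K := Module.finrank_pos
  intro g
  refine mem_of_sq_mem hodd (S := Cz) ?_
  have hR := invRing_genRing (V := V) (hn := h.normal) h.comm
  let σ : K ≃+* K :=
    { toFun := fun r => ⟨rho g * r.1 * rho g⁻¹, hR.inv g r.1 r.2⟩
      invFun := fun r => ⟨rho g⁻¹ * r.1 * rho g⁻¹⁻¹, hR.inv g⁻¹ r.1 r.2⟩
      left_inv := fun r => Subtype.ext (DFunLike.ext _ _ fun x => by
        show g⁻¹ • g • r.1 (g⁻¹ • g⁻¹⁻¹ • x) = r.1 x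
        simp)
      right_inv := fun r => Subtype.ext (DFunLike.ext _ _ fun x => by
        show g • g⁻¹ • r.1 (g⁻¹⁻¹ • g⁻¹ • x) = r.1 x
        simp)
      map_mul' := fun r t => Subtype.ext (DFunLike.ext _ _ fun x => by
        show g • r.1 (t.1 (g⁻¹ • x)) = g • r.1 (g⁻¹ • g • t.1 (g⁻¹ • x))
        simp)
      map_add' := fun r t => Subtype.ext (DFunLike.ext _ _ fun x => by
        show g • (r.1 (g⁻¹ • x) + t.1 (g⁻¹ • x)) = g • r.1 (g⁻¹ • x) + g • t.1 (g⁻¹ • x)
        rw [smul_add]) }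
  let τ : K ≃ₐ[ZMod s] K := AlgEquiv.ofRingEquiv (f := σ) fun x =>
    RingHom.congr_fun (RingHom.ext_zmod ((σ : K →+* K).comp (algebraMap (ZMod s) K)) (algebraMap (ZMod s) K)) x
  have hτ : τ * τ = 1 := by
    have hc : τ ^ Module.finrank (ZMod s) K = 1 := by
      rw [← IsGalois.card_aut_eq_finrank]; exact pow_card_eq_one'
    rcases (show Module.finrank (ZMod s) K = 1 ∨ Module.finrank (ZMod s) K = 2 by omega) with e | e
    · rw [e, pow_one] at hc; rw [hc, one_mul]
    · rw [e, sq] at hc; exact hc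
  refine Subgroup.mem_centralizer_iff.mpr fun z hz => ?_
  have h1 := congrArg (fun t : K ≃ₐ[ZMod s] K => (t ⟨rho z, rho_mem hz⟩).1) hτ
  have h2 : (rho (g * (g * z * g⁻¹) * g⁻¹) : AddMonoid.End V) = rho z := by
    rw [map_mul, map_mul, map_mul, map_mul]
    exact h1
  have h3 := h.rho_inj h2
  calc z * g ^ 2 = (g * (g * z * g⁻¹) * g⁻¹) * g ^ 2 := by rw [h3]
    _ = g ^ 2 * z := by rw [sq]; group

/-- Irreducible odd groups on modules of order dividing a prime square are abelian. -/
theorem comm_irr_sq (hodd : Odd (Nat.card A)) (hirr : Irr A V) {s : ℕ} (hs : s.Prime) (hsx : ∀ x : V, s • x = 0)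
    (hV : Nat.card V ≤ s ^ 2) : Comm V (⊤ : Subgroup A) := by
  haveI : Group.IsSolvable A := Cfsg.Agent.S0205.result hodd
  obtain ⟨G, _, _, _, f, hsurj, hf, hfaith, hsol, hirrG⟩ := image_irr hirr
  have hoddG : Odd (Nat.card G) := hodd.of_dvd_nat (Subgroup.card_dvd_of_surjective f hsurj)
  suffices hG : Comm V (⊤ : Subgroup G) from fun a _ b _ x => by
    rw [← hf a, ← hf b, hG (f a) trivial (f b) trivial, hf, hf]
  haveI : Group.IsSolvable G := hsol
  rcases field_or_sys hfaith hirrG with ⟨W, hW⟩ | ⟨ι, _, _, S, _, _, -⟩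
  · haveI := hW.normal
    obtain ⟨v, hv⟩ := hirrG.1
    have hKV : Nat.card (genRing (V := V) W) ≤ Nat.card V :=
      Nat.card_le_card_of_injective (fun r => r.1 v) fun r r' e => by
        by_contra hne
        exact hv (hW.eq_zero (sub_mem r.2 r'.2) (sub_ne_zero.mpr fun e' => hne (Subtype.ext e'))
          (show r.1 v - r'.1 v = 0 from sub_eq_zero.mpr e))
    have hall := cent_of_small hW hoddG hs hsx (hKV.trans hV)
    rcases trivial_or_frame hW with hC | ⟨F, L, -, he, hQ, hQV⟩
    · intro a _ b _ x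
      rw [← mul_smul, ← mul_smul, hW.comm a (hC (hall a)) b (hC (hall b))]
    · exfalso
      have he3 : 3 ≤ W.relIndex L := by
        obtain ⟨k, hk⟩ := hoddG.of_dvd_nat ((Subgroup.relIndex_dvd_card W L).trans (Subgroup.card_subgroup_dvd_card L))
        omega
      obtain ⟨q, hq, hd⟩ := Nat.exists_prime_and_dvd (n := Nat.card (genRing (V := V) W)) (by omega)
      have h1 : s ≤ Nat.card (genRing (V := V) W) :=
        prime_of_dvd_field hs hsx hq hd ▸ Nat.le_of_dvd (by omega) hd
      have h2 := (Nat.pow_le_pow_left h1 3).trans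
        ((Nat.pow_le_pow_right (by omega) he3).trans (hQV.trans hV))
      have := (Nat.pow_le_pow_iff_right hs.one_lt).mp h2
      omega
  · exfalso
    obtain ⟨i₀⟩ := (inferInstance : Nonempty ι)
    have hm : Nat.card ι ∣ Nat.card G := by
      rw [← index_stabilizer_of_transitive G i₀]
      exact Subgroup.index_dvd_card _
    have hm3 : 3 ≤ Nat.card ι := by
      have : 1 < Nat.card ι := Finite.one_lt_card
      obtain ⟨k, hk⟩ := hoddG.of_dvd_nat hm
      omega
    have hb : 1 < Nat.card (S.blk i₀) := by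
      obtain ⟨x, hx⟩ := S.ne i₀
      haveI : Nontrivial (S.blk i₀) := ⟨⟨⟨S.e i₀ x, S.idem i₀ x⟩, 0, fun e => hx (congrArg Subtype.val e)⟩⟩
      exact Finite.one_lt_card
    obtain ⟨q, hq, hd⟩ := Nat.exists_prime_and_dvd (n := Nat.card (S.blk i₀)) (by omega)
    have hqs : q = s := by
      haveI := Fact.mk hq
      obtain ⟨x, hx⟩ := exists_prime_addOrderOf_dvd_card' q hd
      have h1 : addOrderOf x ∣ s := addOrderOf_dvd_of_nsmul_eq_zero (Subtype.ext (hsx x))
      rwa [hx, Nat.prime_dvd_prime_iff_eq hq hs] at h1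
    have h1 : s ≤ Nat.card (S.blk i₀) := hqs ▸ Nat.le_of_dvd (by omega) hd
    rw [S.card_eq i₀] at hV
    have h2 := ((Nat.pow_le_pow_left h1 3).trans (Nat.pow_le_pow_right (by omega) hm3)).trans hV
    have := (Nat.pow_le_pow_iff_right hs.one_lt).mp h2
    omega

/-- Completely reducible odd groups on modules of order dividing a squarefree square are abelian. -/
theorem comm_sqfree (hodd : Odd (Nat.card A)) (hcr : CR A V) {e : ℕ} (he : Squarefree e)
    (hd : Nat.card V ∣ e * e) : Comm V (⊤ : Subgroup A) := by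
  refine cr_rec (A := A) (fun U _ _ => Nat.card U ∣ e * e → Comm U (⊤ : Subgroup A)) (Nat.card V) ?_ ?_ ?_ V le_rfl hcr hd
  · intro U _ _ _ h0 _ a _ b _ x
    rw [h0 (a • b • x), h0 (b • a • x)]
  · intro U _ _ _ _ hirr hU
    obtain ⟨s, hs, hsx⟩ := exists_char hirr
    haveI := Fact.mk hs
    refine comm_irr_sq hodd hirr hs hsx ?_
    haveI : Module (ZMod s) U := AddCommGroup.zmodModule hsx
    have hc : Nat.card U = s ^ Module.finrank (ZMod s) U := by
      rw [Module.natCard_eq_pow_finrank (K := ZMod s), Nat.card_zmod]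
    rw [hc]
    refine Nat.pow_le_pow_right hs.pos (not_lt.mp fun h3 => ?_)
    have h1 : s ^ 3 ∣ e * e := (pow_dvd_pow s h3).trans (hc ▸ hU)
    have hse : s ∣ e := (hs.dvd_mul.mp ((dvd_pow_self s (by norm_num)).trans h1)).elim id id
    obtain ⟨c, rfl⟩ := hse
    rw [show s * c * (s * c) = s ^ 2 * (c * c) by ring, pow_succ,
      Nat.mul_dvd_mul_iff_left (pow_pos hs.pos 2)] at h1
    obtain ⟨d, rfl⟩ : s ∣ c := (hs.dvd_mul.mp h1).elim id id
    exact hs.not_isUnit (he s ⟨d, by ring⟩)
  · intro U X Y _ _ _ _ _ _ _ _ _ f hf hX hY hU a _ b _ x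
    have hXY : Nat.card X * Nat.card Y ∣ e * e := by rwa [← Nat.card_prod, Nat.card_congr f.toEquiv]
    obtain ⟨p, rfl⟩ := f.surjective x
    rw [← hf, ← hf, ← hf, ← hf,
      hX ((dvd_mul_right _ _).trans hXY) a trivial b trivial p.1,
      hY ((dvd_mul_left _ _).trans hXY) a trivial b trivial p.2]

/-- Multiplication of quadruples as matrices. -/
def qmul (M N : ZMod 3 × ZMod 3 × ZMod 3 × ZMod 3) : ZMod 3 × ZMod 3 × ZMod 3 × ZMod 3 :=
  (M.1 * N.1 + M.2.1 * N.2.2.1, M.1 * N.2.1 + M.2.1 * N.2.2.2,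
    M.2.2.1 * N.1 + M.2.2.2 * N.2.2.1, M.2.2.1 * N.2.1 + M.2.2.2 * N.2.2.2)

/-- A Sylow two-subgroup of the plane. -/
def qlist : Fin 16 → ZMod 3 × ZMod 3 × ZMod 3 × ZMod 3 :=
  ![(1, 0, 0, 1), (1, 0, 0, 2), (2, 0, 0, 2), (2, 0, 0, 1), (0, 2, 1, 0), (0, 1, 1, 0), (0, 1, 2, 0), (0, 2, 2, 0),
    (1, 2, 1, 1), (1, 1, 1, 2), (2, 1, 2, 2), (2, 2, 2, 1), (1, 1, 2, 1), (1, 2, 2, 2), (2, 2, 1, 2), (2, 1, 1, 1)]

theorem qlist_spec : ∀ i : Fin 16, ∃ k, qmul (qlist k) (qlist i) = (1, 0, 0, 1) ∧
    ∀ j, let N := qmul (qlist k) (qlist j)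
      (let N₂ := qmul N N; let N₄ := qmul N₂ N₂; let N₈ := qmul N₄ N₄; qmul N₈ N₈ = (1, 0, 0, 1)) ∧
        (N = (1, 0, 0, 1) → i = j) := by
  decide +kernel

/-- Sixteen inequivalent regular pairs. -/
theorem sixteen (hodd : Odd (Nat.card A)) (hfaith : FaithfulSMul A V) (hcr : CR A V) (h3 : ∀ x : V, 3 • x = 0) :
    16 * Nat.card A ≤ Nat.card V * Nat.card V ∨ Nat.card A ≤ Nat.card V := by
  classical
  haveI : Fact (Nat.Prime 3) := ⟨by norm_num⟩
  haveI : Module (ZMod 3) V := AddCommGroup.zmodModule h3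
  obtain ⟨v, w, hvw⟩ := exists_two_vectors (A := A) (V := V) hodd hcr
  have hcomm : ∀ (a : A) (c : ZMod 3) (x : V), a • c • x = c • a • x := fun a c x =>
    ZMod.map_smul (DistribSMul.toAddMonoidHom V a) c x
  have hinj : ∀ x : V, (∀ a : A, a • x = x → a = 1) → Nat.card A ≤ Nat.card V := fun x hx =>
    Nat.card_le_card_of_injective (fun a => a • x) fun a b e => (inv_mul_eq_one.mp (hx (b⁻¹ * a) (by
      rw [mul_smul, show a • x = b • x from e, inv_smul_smul]))).symm
  by_cases hdep : ∀ c d : ZMod 3, c • v + d • w = 0 → c = 0 ∧ d = 0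
  swap
  · right
    push Not at hdep
    obtain ⟨c, d, hcd, hne⟩ := hdep
    by_cases hd : d = 0
    · subst hd
      have hc : c ≠ 0 := fun hc => hne hc rfl
      rw [zero_smul, add_zero, smul_eq_zero_iff_right hc] at hcd
      exact hinj w fun a ha => hvw a (by rw [hcd, smul_zero]) ha
    · refine hinj v fun a ha => hvw a ha ?_
      have h1 : d • (a • w) = d • w := by
        have h2 := congrArg (a • ·) hcd
        simp only [smul_add, smul_zero, hcomm, ha] at h2
        exact add_left_cancel (h2.trans hcd.symm)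
      exact smul_right_injective V hd h1
  left
  let act : ZMod 3 × ZMod 3 × ZMod 3 × ZMod 3 → V × V → V × V := fun M p =>
    (M.1 • p.1 + M.2.1 • p.2, M.2.2.1 • p.1 + M.2.2.2 • p.2)
  have hact : ∀ M N p, act M (act N p) = act (qmul M N) p := fun M N p => by
    simp only [act, qmul, smul_add, add_smul, mul_smul]
    exact Prod.ext (by abel) (by abel)
  have hg : ∀ (a : A) M p, (a • (act M p).1, a • (act M p).2) = act M (a • p.1, a • p.2) := fun a M p => by
    simp only [act, smul_add, hcomm]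
  have hone : ∀ p, act (1, 0, 0, 1) p = p := fun p => by simp [act]
  let Φ : A × Fin 16 → V × V := fun q => (q.1 • (act (qlist q.2) (v, w)).1, q.1 • (act (qlist q.2) (v, w)).2)
  have hΦ : Function.Injective Φ := by
    rintro ⟨a, i⟩ ⟨b, j⟩ e
    simp only [Φ, Prod.mk.injEq] at e
    obtain ⟨k, hk, hkj⟩ := qlist_spec i
    obtain ⟨hN16, hN1⟩ := hkj j
    set g := b⁻¹ * a with hgdef
    set N := qmul (qlist k) (qlist j)
    have h1 : (g • v, g • w) = act N (v, w) := by
      have e1 : act (qlist i) (g • v, g • w) = act (qlist j) (v, w) := by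
        rw [← hg g (qlist i) (v, w)]
        exact Prod.ext (by show g • _ = _; rw [hgdef, mul_smul, e.1, inv_smul_smul])
          (by show g • _ = _; rw [hgdef, mul_smul, e.2, inv_smul_smul])
      have e2 := congrArg (act (qlist k)) e1
      rwa [hact, hact, hk, hone] at e2
    have hsq : ∀ (x : A) M, (x • v, x • w) = act M (v, w) → ((x * x) • v, (x * x) • w) = act (qmul M M) (v, w) := by
      intro x M hx
      rw [mul_smul, mul_smul]
      have e2 : x • v = (act M (v, w)).1 ∧ x • w = (act M (v, w)).2 := Prod.ext_iff.mp hx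
      rw [e2.1, e2.2, hg, hx, hact]
    have h16 := hsq _ _ (hsq _ _ (hsq _ _ (hsq _ _ h1)))
    rw [hN16, hone] at h16
    have hg1 : g = 1 := by
      have h := hvw _ (congrArg Prod.fst h16) (congrArg Prod.snd h16)
      refine Subgroup.mem_bot.mp (mem_of_sq_mem hodd (mem_of_sq_mem hodd (mem_of_sq_mem hodd (mem_of_sq_mem hodd ?_))))
      rw [Subgroup.mem_bot, ← h]
      simp only [sq]
    have hab : a = b := (inv_mul_eq_one.mp hg1).symm
    have hN : N = (1, 0, 0, 1) := by
      rw [hg1, one_smul, one_smul] at h1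
      simp only [act, Prod.mk.injEq] at h1
      have k1 := hdep (N.1 - 1) N.2.1 (by rw [sub_smul, one_smul, sub_add_eq_add_sub, ← h1.1, sub_self])
      have k2 := hdep N.2.2.1 (N.2.2.2 - 1) (by rw [sub_smul, one_smul, ← add_sub_assoc, ← h1.2, sub_self])
      exact Prod.ext (sub_eq_zero.mp k1.1) (Prod.ext k1.2 (Prod.ext k2.1 (sub_eq_zero.mp k2.2)))
    rw [hab, hN1 hN]
  have h := Nat.card_le_card_of_injective Φ hΦ
  rwa [Nat.card_prod, Nat.card_fin, Nat.card_prod, mul_comm] at h

end CfsgLib.VecStab
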