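import Cfsg.Agent.Lib.VecStab.Series

/-!
Solvable permutation groups: primitive ones have a base of four points and are affine; derived lengths
follow by recursion from those of the linear point stabilizers.
-/

set_option autoImplicit false
set_option linter.style.haveILetI false
set_option linter.unusedSectionVars false

namespace CfsgLib.VecStab

open MulAction CfsgLib.OddBase
open scoped commutatorElement

universe u

/-- A bound for the derived lengths of completely reducible solvable groups on modules of one order. -/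
def LinEq (M D : ℕ) : Prop :=
  ∀ (A V : Type u) [Group A] [Finite A] [AddCommGroup V] [Finite V] [DistribMulAction A V],
    Group.IsSolvable A → Nat.card V = M → CR A V → Len V D (⊤ : Subgroup A)

/-- A bound for all modules of at most a given order. -/
def LinLe (N D : ℕ) : Prop := ∀ M, M ≤ N → LinEq.{u} M D

/-- A bound for the derived lengths of solvable groups on small sets. -/
def PermLe (m D : ℕ) : Prop :=
  ∀ (A ι : Type u) [Group A] [Finite A] [MulAction A ι] [Finite ι],
    Group.IsSolvable A → Nat.card ι ≤ m → Len ι D (⊤ : Subgroup A)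

/-- No equivariant image lies properly between. -/
def PrimLike (A ι : Type u) [Group A] [MulAction A ι] : Prop :=
  ∀ (β : Type u) [MulAction A β] (π : ι → β), (∀ (a : A) i, π (a • i) = a • π i) → Function.Surjective π →
    Nat.card β = Nat.card ι ∨ Nat.card β ≤ 1

theorem affine_data {G ι : Type u} [Group G] [Finite G] [MulAction G ι] [Finite ι] [FaithfulSMul G ι]
    [Group.IsSolvable G] {N : Subgroup G} [N.Normal] (hab : ∀ x ∈ N, ∀ y ∈ N, x * y = y * x)
    (hmin : ∀ L : Subgroup G, L.Normal → L ≤ N → L = ⊥ ∨ L = N) (htr : ∀ i j : ι, ∃ n ∈ N, n • i = j)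
    (i₀ : ι) :
    (∃ s : Fin 4 → ι, ∀ g : G, (∀ k, g • s k = s k) → g = 1) ∧
      ∀ D, LinEq.{u} (Nat.card ι) D → ds (⊤ : Subgroup G) (D + 1) = ⊥ := by
  classical
  let H := stabilizer G i₀
  letI : CommGroup N := { (inferInstance : Group N) with mul_comm := fun x y => Subtype.ext (hab x x.2 y y.2) }
  letI : MulDistribMulAction H N :=
    MulDistribMulAction.compHom N ((MulAut.conjNormal : G →* MulAut N).comp H.subtype)
  letI : DistribMulAction H (Additive N) :=
    { smul := fun h x => Additive.ofMul (h • Additive.toMul x)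
      one_smul := fun x => congrArg Additive.ofMul (one_smul H (Additive.toMul x))
      mul_smul := fun a b x => congrArg Additive.ofMul (mul_smul a b (Additive.toMul x))
      smul_zero := fun a => congrArg Additive.ofMul (smul_one a)
      smul_add := fun a x y => congrArg Additive.ofMul (smul_mul' a (Additive.toMul x) (Additive.toMul y)) }
  have hcoe : ∀ (h : H) (x : N), ((h • x : N) : G) = (h : G) * x * (h : G)⁻¹ := fun h x => rfl
  have hfree : ∀ n ∈ N, n • i₀ = i₀ → n = 1 := fun n hn h => eq_of_smul_eq_smul (α := ι) fun i => by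
    obtain ⟨m, hm, rfl⟩ := htr i₀ i
    rw [one_smul, ← mul_smul, hab n hn m hm, mul_smul, h]
  have hinj : ∀ x y : N, (x : G) • i₀ = (y : G) • i₀ → x = y := fun x y h => by
    have h1 : y⁻¹ * x = 1 := Subtype.ext (hfree _ (y⁻¹ * x).2 (by
      push_cast
      rw [mul_smul, h, inv_smul_smul]))
    exact (inv_mul_eq_one.mp h1).symm
  have hcr : CR H (Additive N) := by
    intro U hU
    let L : Subgroup G := (AddSubgroup.toSubgroup' U).map N.subtype
    have hLn : L.Normal := ⟨fun x hx g => by
      obtain ⟨u, hu, rfl⟩ := hx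
      obtain ⟨n, hn, hni⟩ := htr i₀ (g • i₀)
      have hk : n⁻¹ * g ∈ H := by rw [mem_stabilizer_iff, mul_smul, ← hni, inv_smul_smul]
      refine ⟨(⟨_, hk⟩ : H) • u, hU ⟨_, hk⟩ (Additive.ofMul u) hu, ?_⟩
      rw [Subgroup.coe_subtype, hcoe]
      have h2 := hab n hn _ ((inferInstance : N.Normal).conj_mem _ u.2 (n⁻¹ * g))
      simp only [Subgroup.coe_subtype] at h2 ⊢
      calc n⁻¹ * g * ↑u * (n⁻¹ * g)⁻¹ = n * (n⁻¹ * g * ↑u * (n⁻¹ * g)⁻¹) * n⁻¹ := by rw [h2, mul_inv_cancel_right]
        _ = g * ↑u * g⁻¹ := by group⟩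
    rcases hmin L hLn (Subgroup.map_subtype_le _) with h | h
    · have hUb : U = ⊥ := (eq_bot_iff).mpr fun x hx => by
        have hx' : ((Additive.toMul x : N) : G) ∈ L := ⟨_, hx, rfl⟩
        rw [h, Subgroup.mem_bot] at hx'
        exact Additive.toMul.injective (Subtype.ext hx')
      subst hUb
      exact ⟨⊤, fun _ _ _ => trivial, bot_inf_eq _, bot_sup_eq _⟩
    · have hUt : U = ⊤ := (eq_top_iff).mpr fun x _ => by
        obtain ⟨y, hy, e⟩ : ((Additive.toMul x : N) : G) ∈ L := h.ge (Additive.toMul x).2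
        have e' : Additive.ofMul y = x := congrArg Additive.ofMul (Subtype.ext e : y = Additive.toMul x)
        rw [← e']
        exact hy
      subst hUt
      exact ⟨⊥, fun a v hv => by rw [AddSubgroup.mem_bot] at hv ⊢; rw [hv, smul_zero], inf_bot_eq _, sup_bot_eq _⟩
  have hfaith : ∀ g : G, g • i₀ = i₀ → (∀ x : N, g * (x : G) * g⁻¹ = x) → g = 1 := fun g h0 h1 => by
    refine eq_of_smul_eq_smul (α := ι) fun i => ?_
    obtain ⟨n, hn, rfl⟩ := htr i₀ i
    rw [one_smul, ← mul_smul, show g * n = n * g from mul_inv_eq_iff_eq_mul.mp (h1 ⟨n, hn⟩), mul_smul, h0]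
  haveI : FaithfulSMul H (Additive N) := ⟨fun {a b} h => by
    have h1 : b⁻¹ * a = 1 := Subtype.ext (hfaith _ (b⁻¹ * a).2 fun x => by
      have e := congrArg (fun y => ((Additive.toMul y : N) : G)) (h (Additive.ofMul x))
      change (a : G) * x * (a : G)⁻¹ = (b : G) * x * (b : G)⁻¹ at e
      push_cast
      calc (b : G)⁻¹ * a * x * ((b : G)⁻¹ * a)⁻¹ = (b : G)⁻¹ * (a * x * (a : G)⁻¹) * b := by group
        _ = x := by rw [e]; group)
    exact (inv_mul_eq_one.mp h1).symm⟩
  refine ⟨?_, fun D hD => ?_⟩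
  · obtain ⟨v₁, v₂, v₃, hv⟩ := CfsgLib.BaseThree.exists_three_vectors (A := H) (V := Additive N) inferInstance hcr
    refine ⟨![i₀, ((Additive.toMul v₁ : N) : G) • i₀, ((Additive.toMul v₂ : N) : G) • i₀,
      ((Additive.toMul v₃ : N) : G) • i₀], fun g hg => ?_⟩
    have h0 : g • i₀ = i₀ := hg 0
    have hconj : ∀ x : N, g • (x : G) • i₀ = (x : G) • i₀ → g * x * g⁻¹ = x := fun x hx =>
      congrArg Subtype.val (hinj ⟨g * x * g⁻¹, (inferInstance : N.Normal).conj_mem _ x.2 g⟩ x (by
        show (g * (x : G) * g⁻¹) • i₀ = (x : G) • i₀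
        rw [mul_smul, mul_smul, show g⁻¹ • i₀ = i₀ by rw [inv_smul_eq_iff, h0], hx]))
    exact congrArg Subtype.val (hv (⟨g, h0⟩ : H) (congrArg Additive.ofMul (Subtype.ext (hconj _ (hg 1))))
      (congrArg Additive.ofMul (Subtype.ext (hconj _ (hg 2))))
      (congrArg Additive.ofMul (Subtype.ext (hconj _ (hg 3)))))
  · have hcardN : Nat.card (Additive N) = Nat.card ι := by
      rw [Nat.card_congr Additive.toMul]
      refine Nat.card_eq_of_bijective (fun x : N => (x : G) • i₀) ⟨fun x y h => hinj x y h, fun i => ?_⟩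
      obtain ⟨n, hn, e⟩ := htr i₀ i
      exact ⟨⟨n, hn⟩, e⟩
    have hbot : ds (⊤ : Subgroup H) D = ⊥ := by
      rw [eq_bot_iff]
      intro a ha
      rw [Subgroup.mem_bot]
      exact eq_of_smul_eq_smul fun x : Additive N => by
        rw [hD H (Additive N) inferInstance hcardN hcr a ha x, one_smul]
    have hle : ds (⊤ : Subgroup G) D ≤ N := by
      let f := QuotientGroup.mk' N
      have hsurj : (⊤ : Subgroup G).map f = ((⊤ : Subgroup H).map H.subtype).map f := by
        refine le_antisymm ?_ (Subgroup.map_mono le_top)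
        rintro _ ⟨g, -, rfl⟩
        obtain ⟨n, hn, hni⟩ := htr i₀ (g • i₀)
        have hk : n⁻¹ * g ∈ H := by rw [mem_stabilizer_iff, mul_smul, ← hni, inv_smul_smul]
        refine ⟨n⁻¹ * g, ⟨⟨_, hk⟩, trivial, rfl⟩, ?_⟩
        rw [map_mul, show f n⁻¹ = 1 from (QuotientGroup.eq_one_iff _).mpr (inv_mem hn), one_mul]
      have h1 : (ds (⊤ : Subgroup G) D).map f = ⊥ := by
        rw [ds_map, hsurj, ← ds_map, ← ds_map, hbot, Subgroup.map_bot, Subgroup.map_bot]
      intro g hg
      exact (QuotientGroup.eq_one_iff g).mp (Subgroup.mem_bot.mp (h1.le ⟨g, hg, rfl⟩))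
    rw [ds_succ, eq_bot_iff, Subgroup.commutator_le]
    intro a ha b hb
    exact Subgroup.mem_bot.mpr (commutatorElement_eq_one_iff_mul_comm.mpr (hab a (hle ha) b (hle hb)))

section
variable {A ι : Type u} [Group A] [Finite A] [MulAction A ι] [Finite ι] [Group.IsSolvable A]

/-- Fibres of an equivariant map to a transitive set. -/
theorem card_fibres {β : Type u} [MulAction A β] [IsPretransitive A ι] (π : ι → β)
    (hπ : ∀ (a : A) i, π (a • i) = a • π i) (hsurj : Function.Surjective π) (b₀ : β) :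
    Nat.card β * Nat.card {i // π i = b₀} = Nat.card ι := by
  classical
  haveI : Finite β := Finite.of_surjective _ hsurj
  haveI := Fintype.ofFinite β
  have h : ∀ b : β, Nat.card {i // π i = b} = Nat.card {i // π i = b₀} := fun b => by
    obtain ⟨i, rfl⟩ := hsurj b
    obtain ⟨j, rfl⟩ := hsurj b₀
    obtain ⟨a, ha⟩ := exists_smul_eq A j i
    refine (Nat.card_congr (Equiv.subtypeEquiv (MulAction.toPerm a) fun x => ?_)).symm
    show π x = π j ↔ π (a • x) = π i
    rw [hπ, ← ha, hπ, smul_left_cancel_iff]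
  calc Nat.card β * Nat.card {i // π i = b₀} = ∑ b : β, Nat.card {i // π i = b} := by
        rw [Finset.sum_congr rfl fun b _ => h b, Finset.sum_const, Finset.card_univ, Nat.card_eq_fintype_card,
          smul_eq_mul]
    _ = Nat.card (Σ b : β, {i // π i = b}) := (Nat.card_sigma).symm
    _ = Nat.card ι := Nat.card_congr (Equiv.sigmaFiberEquiv π)

/-- A primitive solvable group has a base of four points and is affine. -/
theorem prim_data [IsPretransitive A ι] [Nontrivial ι] (hmin : PrimLike A ι) :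
    (∃ s : Fin 4 → ι, ∀ a : A, (∀ k, a • s k = s k) → ∀ i : ι, a • i = i) ∧
      ∀ D, LinEq.{u} (Nat.card ι) D → Len ι (D + 1) (⊤ : Subgroup A) := by
  classical
  let f := MulAction.toPermHom A ι
  let Gb : Subgroup (Equiv.Perm ι) := f.range
  have hsurj : Function.Surjective f.rangeRestrict := f.rangeRestrict_surjective
  haveI : Group.IsSolvable Gb := Group.isSolvable_of_surjective hsurj
  obtain ⟨x, y, hxy⟩ := (inferInstance : Nontrivial ι).exists_pair_ne
  haveI : Nontrivial Gb := by
    obtain ⟨a, ha⟩ := exists_smul_eq A x y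
    exact ⟨⟨⟨_, a, rfl⟩, 1, fun h => hxy (by
      have := congrArg (fun e : Gb => (e : Equiv.Perm ι) x) h
      simp only [OneMemClass.coe_one, Equiv.Perm.one_apply] at this
      exact this.symm.trans ha)⟩⟩
  obtain ⟨N, hNn, -, hN, hab, hmin'⟩ := exists_minimal_abelian (G := Gb) (N := ⊤) top_ne_bot
  haveI := hNn
  have htr : ∀ i j : ι, ∃ n ∈ N, n • i = j := by
    by_contra hnt
    let r : Setoid ι := orbitRel N ι
    have hr : ∀ (a : A) {x y : ι}, r x y → r (a • x) (a • y) := by
      rintro a x y ⟨n, rfl⟩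
      exact ⟨⟨f.rangeRestrict a * n * (f.rangeRestrict a)⁻¹, hNn.conj_mem _ n.2 _⟩,
        show (f.rangeRestrict a * n * (f.rangeRestrict a)⁻¹ : Gb) • (f.rangeRestrict a • y) =
          f.rangeRestrict a • (n : Gb) • y by
        rw [mul_smul, mul_smul, inv_smul_smul]⟩
    letI : MulAction A (Quotient r) :=
      { smul := fun g => Quotient.map' (g • ·) fun x y h => hr g h
        one_smul := fun q => Quotient.inductionOn' q fun x => congrArg (Quotient.mk r) (one_smul _ x)
        mul_smul := fun a b q => Quotient.inductionOn' q fun x => congrArg (Quotient.mk r) (mul_smul a b x) }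
    rcases hmin (Quotient r) (Quotient.mk r) (fun a i => rfl) Quotient.mk_surjective with h | h
    · have hb := (Nat.bijective_iff_surjective_and_card (Quotient.mk r)).mpr ⟨Quotient.mk_surjective, h.symm⟩
      obtain ⟨n, hn, hn1⟩ := N.bot_or_exists_ne_one.resolve_left hN
      exact hn1 (eq_of_smul_eq_smul (α := ι) fun i => by
        rw [one_smul]
        exact hb.1 (Quotient.sound' ⟨⟨n, hn⟩, rfl⟩))
    · haveI := Finite.card_le_one_iff_subsingleton.mp h
      refine hnt fun i j => ?_
      obtain ⟨m, hm⟩ := Quotient.exact (Subsingleton.elim (Quotient.mk r j) (Quotient.mk r i))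
      exact ⟨m, m.2, hm⟩
  obtain ⟨⟨s, hs⟩, hlen⟩ := affine_data hab hmin' htr x
  refine ⟨⟨s, fun a ha i => ?_⟩, fun D hD a ha i => ?_⟩
  · have h := hs (f.rangeRestrict a) ha
    exact DFunLike.congr_fun (congrArg Subtype.val h) i
  · have h1 : f.rangeRestrict a ∈ (ds (⊤ : Subgroup A) (D + 1)).map f.rangeRestrict := ⟨a, ha, rfl⟩
    rw [ds_map, Subgroup.map_top_of_surjective _ hsurj, hlen D hD, Subgroup.mem_bot] at h1
    exact DFunLike.congr_fun (congrArg Subtype.val h1) i

theorem primLike_of_prime [IsPretransitive A ι] (h : (Nat.card ι).Prime) : PrimLike A ι := by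
  intro β _ π hπ hsurj
  obtain ⟨i⟩ : Nonempty ι := (Nat.card_pos_iff.mp h.pos).1
  have hd : Nat.card β ∣ Nat.card ι := ⟨_, (card_fibres π hπ hsurj (π i)).symm⟩
  rcases h.eq_one_or_self_of_dvd _ hd with e | e
  · exact Or.inr e.le
  · exact Or.inl e

/-- Transitive groups of prime degree. -/
theorem len_prime [IsPretransitive A ι] (h : (Nat.card ι).Prime) {D : ℕ} (hD : LinEq.{u} (Nat.card ι) D) :
    Len ι (D + 1) (⊤ : Subgroup A) := by
  haveI : Nontrivial ι := Finite.one_lt_card_iff_nontrivial.mp h.one_lt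
  exact (prim_data (primLike_of_prime h)).2 D hD

end

/-- The recursion for permutation groups. -/
theorem permLe_of {m D : ℕ} (hprim : ∀ k, 2 ≤ k → k ≤ m → ∃ d, d + 1 ≤ D ∧ LinEq.{u} k d)
    (hblock : ∀ a b, 2 ≤ a → 2 ≤ b → a * b ≤ m → ∃ x y, x + y ≤ D ∧ PermLe.{u} a x ∧ PermLe.{u} b y) :
    PermLe.{u} m D := by
  classical
  suffices key : ∀ (A ι : Type u) [Group A] [Finite A] [MulAction A ι] [Finite ι] [IsPretransitive A ι],
      Group.IsSolvable A → Nat.card ι ≤ m → Len ι D (⊤ : Subgroup A) by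
    intro A ι _ _ _ _ hsol hm a ha i
    let O : SubMulAction A ι := ⟨orbit A i, fun g {x} hx => by rwa [← orbit_eq_iff, orbit_smul, orbit_eq_iff]⟩
    haveI : IsPretransitive A O := ⟨fun x y => by
      obtain ⟨g, hg⟩ : ∃ g : A, g • i = (x : ι) := x.2
      obtain ⟨g', hg'⟩ : ∃ g : A, g • i = (y : ι) := y.2
      exact ⟨g' * g⁻¹, Subtype.ext (show (g' * g⁻¹) • (x : ι) = y by rw [← hg, ← hg', mul_smul, inv_smul_smul])⟩⟩
    exact congrArg Subtype.val (key A O hsol
      ((Nat.card_le_card_of_injective _ Subtype.val_injective).trans hm) a ha ⟨i, mem_orbit_self i⟩)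
  intro A ι _ _ _ _ _ hsol hm
  haveI := hsol
  by_cases hsub : Subsingleton ι
  · exact fun a _ i => Subsingleton.elim _ _
  rw [not_subsingleton_iff_nontrivial] at hsub
  by_cases hP : PrimLike A ι
  · obtain ⟨d, hd, hL⟩ := hprim _ Finite.one_lt_card hm
    exact Len.mono ((prim_data hP).2 d hL) le_rfl hd
  unfold PrimLike at hP
  push Not at hP
  obtain ⟨β, _, π, hπ, hsurj, hne, hlt⟩ := hP
  haveI : Finite β := Finite.of_surjective _ hsurj
  obtain ⟨i₁⟩ : Nonempty ι := inferInstance
  have hc := card_fibres π hπ hsurj (π i₁)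
  have h2 : 2 ≤ Nat.card {i // π i = π i₁} := by
    haveI : Nonempty {i // π i = π i₁} := ⟨⟨i₁, rfl⟩⟩
    have h1 : 0 < Nat.card {i // π i = π i₁} := Nat.card_pos
    by_contra h
    exact hne (by rw [← hc, show Nat.card {i // π i = π i₁} = 1 by omega, mul_one])
  obtain ⟨x, y, hxy, hx, hy⟩ := hblock _ _ h2 hlt (by rw [mul_comm, hc]; exact hm)
  intro a ha i
  have hb := hy A β hsol le_rfl
  let p : SubMulAction (stabilizer A (π i)) ι :=
    ⟨{j | π j = π i}, fun g {j} (hj : π j = π i) => show π ((g : A) • j) = π i by rw [hπ, hj]; exact g.2⟩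
  have hle : ds (⊤ : Subgroup A) y ≤ stabilizer A (π i) := fun g hg => hb g hg (π i)
  have ha' : a ∈ ds (ds (⊤ : Subgroup A) y) x := by
    rw [← ds_add]
    exact ds_anti _ (by omega) ha
  have hmem : a ∈ stabilizer A (π i) := hle (ds_le _ _ ha')
  have hp : Nat.card p ≤ Nat.card {j // π j = π i₁} := by
    refine le_of_eq (Nat.mul_left_cancel (Nat.zero_lt_of_lt hlt) ?_)
    show Nat.card β * Nat.card {j // π j = π i} = _
    rw [card_fibres π hπ hsurj, hc]
  have hmem' := ds_map_sub hle (MonoidHom.id (stabilizer A (π i))) ⊤ (fun _ _ => trivial) x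
    (a := ⟨a, hmem⟩) ha'
  exact congrArg Subtype.val (hx _ p inferInstance hp (⟨a, hmem⟩ : stabilizer A (π i)) hmem' ⟨i, rfl⟩)

theorem permLe_one : PermLe.{u} 1 0 := fun A ι _ _ _ _ _ h a _ i => by
  haveI := Finite.card_le_one_iff_subsingleton.mp h
  exact Subsingleton.elim _ _

theorem PermLe.mono {m m' D D' : ℕ} (h : PermLe.{u} m D) (hm : m' ≤ m) (hD : D ≤ D') : PermLe.{u} m' D' :=
  fun A ι _ _ _ _ hs hc => (h A ι hs (hc.trans hm)).mono le_rfl hD

end CfsgLib.VecStab
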