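import Cfsg.Agent.Lib.VecStab.System
import Cfsg.Agent.Lib.OddBase.Main

/-!
The field case: derived lengths of the group and of stabilizers, and the fixed spaces of linear elements.
-/

set_option autoImplicit false
set_option linter.style.haveILetI false
set_option linter.unusedSectionVars false

namespace CfsgLib.VecStab

open MulAction CfsgLib.OddBase
open scoped commutatorElement

universe u

variable {A V : Type u} [Group A] [Finite A] [AddCommGroup V] [Finite V] [DistribMulAction A V]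
  {Z F L : Subgroup A}

local notation "Cz" => Subgroup.centralizer (Z : Set A)

theorem ds_one_le_cent (h : Setup A V Z) : ds (⊤ : Subgroup A) 1 ≤ Cz := by
  obtain ⟨z₀, hz₀, hgen⟩ := exists_gen h
  rw [ds_succ, ds_zero, Subgroup.commutator_le]
  intro a _ b _
  have key : ∀ a : A, ∃ i : ℤ, a * z₀ * a⁻¹ = z₀ ^ i := fun a => by
    obtain ⟨i, hi⟩ := Subgroup.mem_zpowers_iff.mp (hgen (h.normal.conj_mem z₀ hz₀ a))
    exact ⟨i, hi.symm⟩
  obtain ⟨i, hi⟩ := key a
  obtain ⟨j, hj⟩ := key b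
  have hab : (a * b) * z₀ * (a * b)⁻¹ = (b * a) * z₀ * (b * a)⁻¹ := by
    calc (a * b) * z₀ * (a * b)⁻¹ = a * (b * z₀ * b⁻¹) * a⁻¹ := by group
      _ = (a * z₀ * a⁻¹) ^ j := by rw [hj, conj_zpow]
      _ = (b * z₀ * b⁻¹) ^ i := by rw [hi, hj, ← zpow_mul, ← zpow_mul, mul_comm]
      _ = b * (a * z₀ * a⁻¹) * b⁻¹ := by rw [hi, conj_zpow]
      _ = (b * a) * z₀ * (b * a)⁻¹ := by group
  refine mem_cent_of_gen hgen ?_
  have e : (b * a)⁻¹ * (a * b) ∈ Cz := mem_cent_of_gen hgen (by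
    calc (b * a)⁻¹ * (a * b) * z₀ * ((b * a)⁻¹ * (a * b))⁻¹ = (b * a)⁻¹ * ((a * b) * z₀ * (a * b)⁻¹) * (b * a) := by group
      _ = z₀ := by rw [hab]; group)
  have e2 : ⁅a, b⁆ = (b * a) * ((b * a)⁻¹ * (a * b)) * (b * a)⁻¹ := by rw [commutatorElement_def]; group
  have hn := centralizer_normal h.normal
  calc ⁅a, b⁆ * z₀ * ⁅a, b⁆⁻¹ = z₀ := by
        rw [e2]
        have := Subgroup.mem_centralizer_iff.mp (hn.conj_mem _ e (b * a)) z₀ hz₀
        rw [← this, mul_inv_cancel_right]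

/-- Without a section the group is metabelian. -/
theorem len_trivial (h : Setup A V Z) (hCZ : Cz ≤ Z) :
    Len V 2 (⊤ : Subgroup A) ∧ ∀ v : V, v ≠ 0 → Comm V (stabilizer A v) := by
  have h1 : ds (⊤ : Subgroup A) 1 ≤ Z := (ds_one_le_cent h).trans hCZ
  refine ⟨fun a ha x => ?_, fun v hv a ha b hb x => ?_⟩
  · have h2 : ⁅Z, Z⁆ ≤ ⊥ := by
      rw [Subgroup.commutator_le]
      exact fun a ha b hb => Subgroup.mem_bot.mpr (commutatorElement_eq_one_iff_mul_comm.mpr (h.comm a ha b hb))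
    rw [ds_succ] at ha
    rw [Subgroup.mem_bot.mp (h2 (Subgroup.commutator_mono h1 h1 ha)), one_smul]
  · have hc : ⁅a, b⁆ = 1 := by
      by_contra hne
      refine hv (h.fx_center (h1 ?_) hne ?_)
      · rw [ds_succ, ds_zero]
        exact Subgroup.commutator_mem_commutator trivial trivial
      · exact mem_stabilizer_iff.mp ((stabilizer A v).mul_mem ((stabilizer A v).mul_mem
          ((stabilizer A v).mul_mem ha hb) ((stabilizer A v).inv_mem ha)) ((stabilizer A v).inv_mem hb))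
    rw [← mul_smul, ← mul_smul, commutatorElement_eq_one_iff_mul_comm.mp hc]

/-- The completely reducible action on the section. -/
theorem cr_of_crAut {W : Type u} [CommGroup W] [Finite W] (S : Subgroup (MulAut W)) (hS : CRAut S) :
    letI := addAct S
    CR S (Additive W) := fun U hU => by
  letI := addAct S
  obtain ⟨X, hX, h1, h2⟩ := hS (AddSubgroup.toSubgroup' U) fun g hg x hx => hU ⟨g, hg⟩ (Additive.ofMul x) hx
  refine ⟨Subgroup.toAddSubgroup X, fun g x hx => hX g g.2 _ hx, ?_, ?_⟩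
  · rw [eq_bot_iff]
    intro x hx
    refine AddSubgroup.mem_bot.mpr (Additive.toMul.injective ?_)
    exact Subgroup.mem_bot.mp (h1.le (show Additive.toMul x ∈ AddSubgroup.toSubgroup' U ⊓ X from ⟨hx.1, hx.2⟩))
  · rw [eq_top_iff]
    intro x _
    obtain ⟨u, hu, y, hy, e⟩ := Subgroup.mem_sup.mp (h2.ge (Subgroup.mem_top (Additive.toMul x)))
    exact AddSubgroup.mem_sup.mpr ⟨Additive.ofMul u, hu, Additive.ofMul y, hy, congrArg Additive.ofMul e⟩

section Frame
variable (hf : Frame A V Z F L)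
include hf

theorem derived_le_section [Group.IsSolvable A] {g : ℕ} (hg : 1 ≤ g)
    (hlin : LinEq.{u} (Z.relIndex L * Z.relIndex L) g) : ds (⊤ : Subgroup A) g ≤ F := by
  haveI := hf.base.normal
  haveI := hf.normal
  letI := sectionComm hf
  let S := (phi Z F).range
  letI := addAct S
  haveI : Group.IsSolvable S := Group.isSolvable_of_surjective (phi Z F).rangeRestrict_surjective
  have hS : Nat.card (Additive (F ⧸ Z.subgroupOf F)) = Z.relIndex L * Z.relIndex L := by
    rw [Nat.card_congr Additive.toMul, ← hf.sq_index]; rfl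
  have h1 := hlin S (Additive (F ⧸ Z.subgroupOf F)) inferInstance hS (cr_of_crAut S (phi_cr hf))
  intro a ha
  have hC : a ∈ Cz := ds_one_le_cent hf.base (ds_anti _ hg ha)
  refine phi_ker_cent hf hC ?_
  have h2 : (phi Z F).rangeRestrict a ∈ (ds (⊤ : Subgroup A) g).map (phi Z F).rangeRestrict := ⟨a, ha, rfl⟩
  rw [ds_map, Subgroup.map_top_of_surjective _ (phi Z F).rangeRestrict_surjective] at h2
  exact MulEquiv.ext fun x => congrArg Additive.toMul (h1 _ h2 (Additive.ofMul x))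

theorem derived_two_eq_bot : ds F 2 = ⊥ := by
  have h1 : ⁅F, F⁆ ≤ Z := Subgroup.commutator_le.mpr hf.comm
  rw [ds_succ, ds_succ, ds_zero, eq_bot_iff, Subgroup.commutator_le]
  exact fun a ha b hb => Subgroup.mem_bot.mpr
    (commutatorElement_eq_one_iff_mul_comm.mpr (hf.base.comm a (h1 ha) b (h1 hb)))

theorem comm_fix {v : V} (hv : v ≠ 0) {a b : A} (ha : a ∈ F) (hb : b ∈ F) (hav : a • v = v) (hbv : b • v = v) :
    a * b = b * a := by
  refine commutatorElement_eq_one_iff_mul_comm.mp (by_contra fun hne => hv (hf.base.fx_center (hf.comm a ha b hb) hne ?_))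
  exact mem_stabilizer_iff.mp ((stabilizer A v).mul_mem ((stabilizer A v).mul_mem
    ((stabilizer A v).mul_mem hav hbv) ((stabilizer A v).inv_mem hav)) ((stabilizer A v).inv_mem hbv))

theorem len_field [Group.IsSolvable A] {g : ℕ} (hg : 1 ≤ g)
    (hlin : LinEq.{u} (Z.relIndex L * Z.relIndex L) g) :
    Len V (g + 2) (⊤ : Subgroup A) ∧ (∀ v : V, v ≠ 0 → Len V (g + 1) (stabilizer A v)) ∧
      ∀ v : V, (∀ a ∈ F, a • v = v → a = 1) → Len V g (stabilizer A v) := by
  have hle := derived_le_section hf hg hlin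
  refine ⟨fun a ha x => ?_, fun v hv a ha x => ?_, fun v hv a ha x => ?_⟩
  · rw [ds_add] at ha
    rw [Subgroup.mem_bot.mp ((derived_two_eq_bot hf).le (ds_mono hle 2 ha)), one_smul]
  · have h2 : ⁅ds (stabilizer A v) g, ds (stabilizer A v) g⁆ ≤ ⊥ := by
      rw [Subgroup.commutator_le]
      intro a ha b hb
      exact Subgroup.mem_bot.mpr (commutatorElement_eq_one_iff_mul_comm.mpr (comm_fix hf hv
        (hle (ds_mono le_top g ha)) (hle (ds_mono le_top g hb)) (ds_le _ _ ha) (ds_le _ _ hb)))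
    rw [ds_succ] at ha
    rw [Subgroup.mem_bot.mp (h2 ha), one_smul]
  · rw [hv a (hle (ds_mono le_top g ha)) (ds_le _ _ ha), one_smul]

omit hf in
/-- Two elements of one coset of the scalars. -/
theorem fc_two (h : Setup A V Z) {g z : A} (hz : z ∈ Z) (hz1 : z ≠ 1) : fc V g * fc V (g * z) ≤ Nat.card V := by
  rw [fc, fc, ← Nat.card_prod]
  let φ : Fx (V := V) g × Fx (V := V) (g * z) →+ V :=
    { toFun := fun x => (x.1 : V) + x.2
      map_zero' := by simp
      map_add' := fun x y => by simp only [Prod.fst_add, Prod.snd_add, AddSubgroup.coe_add]; abel }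
  refine Nat.card_le_card_of_injective φ ((injective_iff_map_eq_zero φ).mpr ?_)
  rintro ⟨⟨x, hx⟩, ⟨y, hy⟩⟩ (hs : x + y = 0)
  have hy' : g • y = y := by
    rw [eq_neg_of_add_eq_zero_right hs, smul_neg, show g • x = x from hx]
  have hzy : z • y = y := smul_left_cancel g ((mul_smul g z y).symm.trans ((show (g * z) • y = y from hy).trans hy'.symm))
  have hy0 : y = 0 := h.fx_center hz hz1 hzy
  have hx0 : x = 0 := by simpa [hy0] using hs
  simp [Prod.ext_iff, hx0, hy0]

theorem fc_section {g : A} (hg : g ∈ F) (hgZ : g ∉ Z) : fc V g ^ 2 ≤ Nat.card V := by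
  obtain ⟨y, hy, hne⟩ : ∃ y ∈ F, ⁅y, g⁆ ≠ 1 := by
    by_contra hcon
    push Not at hcon
    exact hgZ (hf.centre_F hg fun y hy => by rw [← commutatorElement_inv, hcon y hy, inv_one])
  have hz : g⁻¹ * (y * g * y⁻¹) ∈ Z := by
    have e2 : g⁻¹ * (y * g * y⁻¹) = g⁻¹ * ⁅y, g⁆ * g := by simp [commutatorElement_def, mul_assoc]
    rw [e2]
    simpa using hf.base.normal.conj_mem _ (hf.comm y hy g hg) g⁻¹
  have hz1 : g⁻¹ * (y * g * y⁻¹) ≠ 1 := fun e => hne (by
    rw [commutatorElement_def, ← inv_mul_eq_one.mp e, mul_inv_cancel])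
  have := fc_two (V := V) hf.base (g := g) hz hz1
  rwa [mul_inv_cancel_left, fc_conj, ← sq] at this

theorem fc_linear {g : A} (hgC : g ∈ Cz) (hgF : g ∉ F) : fc V g ^ 4 ≤ Nat.card V ^ 3 := by
  obtain ⟨y, hy, hne⟩ : ∃ y ∈ F, ⁅g, y⁆ ∉ Z := by
    by_contra hcon
    push Not at hcon
    exact hgF (hf.ker g hgC hcon)
  have hcF : y * g * y⁻¹ * g⁻¹ ∈ F := by
    rw [show y * g * y⁻¹ * g⁻¹ = y * (g * y⁻¹ * g⁻¹) by group]
    exact F.mul_mem hy (hf.normal.conj_mem _ (F.inv_mem hy) g)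
  have hcZ : y * g * y⁻¹ * g⁻¹ ∉ Z := fun hcZ => hne (by
    have h1 := Z.inv_mem hcZ
    rwa [show (y * g * y⁻¹ * g⁻¹)⁻¹ = ⁅g, y⁆ by rw [commutatorElement_def]; group] at h1)
  have h2 : fc V g ^ 2 ≤ Nat.card V * fc V (y * g * y⁻¹ * g⁻¹) := Setup.fc_two_conj (V := V)
  calc fc V g ^ 4 = (fc V g ^ 2) ^ 2 := by ring
    _ ≤ (Nat.card V * fc V (y * g * y⁻¹ * g⁻¹)) ^ 2 := Nat.pow_le_pow_left h2 2
    _ = Nat.card V ^ 2 * fc V (y * g * y⁻¹ * g⁻¹) ^ 2 := mul_pow _ _ _
    _ ≤ Nat.card V ^ 2 * Nat.card V := Nat.mul_le_mul_left _ (fc_section hf hcF hcZ)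
    _ = Nat.card V ^ 3 := by ring

theorem card_F_le : Nat.card F ≤ Nat.card (genRing (V := V) Z) * (Z.relIndex L * Z.relIndex L) := by
  haveI := hf.base.normal
  have h3 := (Z.subgroupOf F).card_eq_card_quotient_mul_card_subgroup
  rw [show Nat.card (F ⧸ Z.subgroupOf F) = Z.relIndex F from rfl, hf.sq_index,
    Nat.card_congr (Subgroup.subgroupOfEquivOfLe hf.le).toEquiv] at h3
  rw [h3, mul_comm]
  exact Nat.mul_le_mul_right _ (card_lt_field hf.base).le

theorem card_C_le [Z.Normal] [F.Normal] {b : ℕ} (hb : Nat.card ((Cz : Subgroup A).map (phi Z F)) ≤ b) :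
    Nat.card (Cz : Subgroup A) ≤ b * Nat.card F := by
  have h1 := ((phi Z F).comp (Cz : Subgroup A).subtype).ker.card_eq_card_quotient_mul_card_subgroup
  have h2 : ((phi Z F).comp (Cz : Subgroup A).subtype).ker = F.subgroupOf Cz := by
    ext x
    exact ⟨fun hx => phi_ker_cent hf x.2 (MonoidHom.mem_ker.mp hx), fun hx => MonoidHom.mem_ker.mpr (phi_F hf hx)⟩
  rw [Nat.card_congr (QuotientGroup.quotientKerEquivRange _).toEquiv, MonoidHom.range_comp, Subgroup.range_subtype,
    h2, Nat.card_congr (Subgroup.subgroupOfEquivOfLe hf.cent).toEquiv] at h1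
  rw [h1]
  exact Nat.mul_le_mul_right _ hb

theorem card_image_le [Group.IsSolvable A] [Z.Normal] [F.Normal] :
    Nat.card (phi Z F).range ≤ (Z.relIndex L * Z.relIndex L) ^ 3 := by
  letI := sectionComm hf
  let S := (phi Z F).range
  letI := addAct S
  haveI : Group.IsSolvable S := Group.isSolvable_of_surjective (phi Z F).rangeRestrict_surjective
  haveI : FaithfulSMul S (Additive (F ⧸ Z.subgroupOf F)) :=
    ⟨fun h => Subtype.ext (MulEquiv.ext fun x => congrArg Additive.toMul (h (Additive.ofMul x)))⟩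
  obtain ⟨a, b, c, habc⟩ := CfsgLib.BaseThree.exists_three_vectors (A := S) (V := Additive (F ⧸ Z.subgroupOf F))
    inferInstance (cr_of_crAut S (phi_cr hf))
  let T := Additive (F ⧸ Z.subgroupOf F)
  have hinj : Function.Injective fun g : S => ((g • a, g • b, g • c) : T × T × T) := fun g g' h => by
    simp only [Prod.mk.injEq] at h
    have h1 := habc (g'⁻¹ * g) (by rw [mul_smul, h.1, inv_smul_smul]) (by rw [mul_smul, h.2.1, inv_smul_smul])
      (by rw [mul_smul, h.2.2, inv_smul_smul])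
    exact (inv_mul_eq_one.mp h1).symm
  refine (Nat.card_le_card_of_injective _ hinj).trans (le_of_eq ?_)
  rw [Nat.card_prod, Nat.card_prod, Nat.card_congr (Additive.toMul : T ≃ _),
    show Nat.card (F ⧸ Z.subgroupOf F) = Z.relIndex F from rfl, hf.sq_index]
  ring

end Frame

/-- The two alternatives of the field case. -/
theorem trivial_or_frame [Group.IsSolvable A] (h : Setup A V Z) :
    Cz ≤ Z ∨ ∃ F L, Frame A V Z F L ∧ 2 ≤ Z.relIndex L ∧ 3 ≤ Nat.card (genRing (V := V) Z) ∧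
      Nat.card (genRing (V := V) Z) ^ Z.relIndex L ≤ Nat.card V := by
  by_cases hCZ : Cz ≤ Z
  · exact Or.inl hCZ
  obtain ⟨F, L, hf⟩ := exists_frame h
  refine Or.inr ⟨F, L, hf, ?_, ?_, hf.card_ge⟩
  all_goals
    have hw : Z.relIndex F ≠ 1 := fun h1 => hCZ fun x hx =>
      hf.centre x hx fun y hy => hf.central_left hx (Subgroup.relIndex_eq_one.mp h1 hy)
  · have h0 : 0 < Z.relIndex L := Nat.pos_of_ne_zero Subgroup.index_ne_zero_of_finite
    by_contra hlt
    exact hw (by rw [hf.sq_index, show Z.relIndex L = 1 by omega])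
  · obtain ⟨s, hs, hd⟩ := Nat.exists_prime_and_dvd hw
    obtain ⟨z, hz, hzo⟩ := hf.prime_dvd hs hd
    have h1 : s ≤ Nat.card Z := by
      rw [← hzo, ← Subgroup.orderOf_mk z hz]
      exact Nat.le_of_dvd Nat.card_pos (orderOf_dvd_natCard _)
    have := hs.two_le
    have := card_lt_field h
    omega

end CfsgLib.VecStab
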