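import Cfsg.Agent.Lib.BaseThree.Top

/-!
Derived lengths of the permutation groups induced by subgroups, and induction over complete reducibility.
-/

set_option autoImplicit false
set_option linter.style.haveILetI false
set_option linter.unusedSectionVars false

namespace CfsgLib.VecStab

open MulAction CfsgLib.OddBase
open scoped commutatorElement

universe u v w

section
variable {A : Type u} [Group A] {B : Type v} [Group B]

/-- The derived series of a subgroup, inside the group. -/
def ds (K : Subgroup A) : ℕ → Subgroup A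
  | 0 => K
  | n + 1 => ⁅ds K n, ds K n⁆

@[simp] theorem ds_zero (K : Subgroup A) : ds K 0 = K := rfl

theorem ds_succ (K : Subgroup A) (n : ℕ) : ds K (n + 1) = ⁅ds K n, ds K n⁆ := rfl

theorem ds_top : ∀ n, ds (⊤ : Subgroup A) n = derivedSeries A n
  | 0 => rfl
  | n + 1 => by rw [ds_succ, derivedSeries_succ, ds_top n]

theorem ds_map (f : A →* B) (K : Subgroup A) : ∀ n, (ds K n).map f = ds (K.map f) n
  | 0 => rfl
  | n + 1 => by rw [ds_succ, ds_succ, Subgroup.map_commutator, ds_map f K n]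

theorem ds_mono {K L : Subgroup A} (h : K ≤ L) : ∀ n, ds K n ≤ ds L n
  | 0 => h
  | n + 1 => Subgroup.commutator_mono (ds_mono h n) (ds_mono h n)

theorem ds_add (K : Subgroup A) (a : ℕ) : ∀ b, ds K (a + b) = ds (ds K a) b
  | 0 => rfl
  | b + 1 => by rw [← add_assoc, ds_succ, ds_succ, ds_add K a b]

theorem ds_le (K : Subgroup A) : ∀ n, ds K n ≤ K
  | 0 => le_rfl
  | n + 1 => le_trans (Subgroup.commutator_le_self _) (ds_le K n)

theorem ds_anti (K : Subgroup A) {m n : ℕ} (h : m ≤ n) : ds K n ≤ ds K m := by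
  obtain ⟨d, rfl⟩ := Nat.exists_eq_add_of_le h
  rw [ds_add]
  exact ds_le _ d

/-- A homomorphism from a subgroup sends the derived series of a smaller one into that of its image. -/
theorem ds_map_sub {L K : Subgroup A} (hKL : K ≤ L) (f : L →* B) (M : Subgroup B)
    (hM : ∀ a : L, (a : A) ∈ K → f a ∈ M) (n : ℕ) {a : L} (ha : (a : A) ∈ ds K n) : f a ∈ ds M n := by
  have e : ds K n = (ds (K.subgroupOf L) n).map L.subtype := by
    rw [ds_map, Subgroup.map_subgroupOf_eq_of_le hKL]
  rw [e] at ha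
  obtain ⟨b, hb, e'⟩ := ha
  obtain rfl : b = a := Subtype.ext e'
  have h1 : f b ∈ (ds (K.subgroupOf L) n).map f := ⟨b, hb, rfl⟩
  rw [ds_map] at h1
  refine ds_mono ?_ n h1
  rintro _ ⟨c, hc, rfl⟩
  exact hM c hc

end

section
variable {A : Type u} [Group A] (X : Type v) [MulAction A X]

/-- The `n`-th derived subgroup acts trivially. -/
def Len (n : ℕ) (K : Subgroup A) : Prop := ∀ a ∈ ds K n, ∀ x : X, a • x = x

/-- The induced group is abelian. -/
def Comm (K : Subgroup A) : Prop := ∀ a ∈ K, ∀ b ∈ K, ∀ x : X, a • b • x = b • a • x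

variable {X}

theorem Len.mono {n m : ℕ} {K L : Subgroup A} (h : Len X n L) (hKL : K ≤ L) (hnm : n ≤ m) : Len X m K :=
  fun a ha => h a (ds_mono hKL n (ds_anti K hnm ha))

theorem Comm.mono {K L : Subgroup A} (h : Comm X L) (hKL : K ≤ L) : Comm X K :=
  fun a ha b hb => h a (hKL ha) b (hKL hb)

theorem Comm.len {K : Subgroup A} (h : Comm X K) : Len X 1 K := by
  intro a ha x
  rw [ds_succ, ds_zero] at ha
  have hle : ⁅K, K⁆ ≤ (MulAction.toPermHom A X).ker := by
    rw [Subgroup.commutator_le]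
    intro a ha b hb
    rw [MonoidHom.mem_ker]
    refine Equiv.ext fun x => ?_
    show ⁅a, b⁆ • x = x
    rw [commutatorElement_def, mul_smul, mul_smul, mul_smul, h a ha b hb, smul_inv_smul, smul_inv_smul]
  exact DFunLike.congr_fun (MonoidHom.mem_ker.mp (hle ha)) x

theorem len_of_le_ker {Y : Type w} [MulAction A Y] {n : ℕ} {K : Subgroup A} (h : Len Y n K)
    (hY : ∀ a : A, (∀ y : Y, a • y = y) → ∀ x : X, a • x = x) : Len X n K :=
  fun a ha => hY a (h a ha)

end

section
variable {A : Type u} [Group A] [Finite A]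

/-- The subgroup fixing every point of a set mapped into itself. -/
theorem len_top_iff (X : Type v) [MulAction A X] (n : ℕ) :
    Len X n (⊤ : Subgroup A) ↔ ∀ a ∈ derivedSeries A n, ∀ x : X, a • x = x := by
  rw [Len, ds_top]

end

section
variable {A : Type u} [Group A] [Finite A]

/-- Induction over complete reducibility. -/
theorem cr_rec
    (P : ∀ (V : Type u) [AddCommGroup V] [DistribMulAction A V], Prop) (n : ℕ)
    (hzero : ∀ (V : Type u) [AddCommGroup V] [Finite V] [DistribMulAction A V], (∀ x : V, x = 0) → P V)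
    (hirr : ∀ (V : Type u) [AddCommGroup V] [Finite V] [DistribMulAction A V], Nat.card V ≤ n → Irr A V → P V)
    (hsum : ∀ (V U W : Type u) [AddCommGroup V] [Finite V] [DistribMulAction A V] [AddCommGroup U] [Finite U]
      [DistribMulAction A U] [AddCommGroup W] [Finite W] [DistribMulAction A W] (f : U × W ≃+ V),
      (∀ (a : A) (p : U × W), f (a • p.1, a • p.2) = a • f p) → P U → P W → P V) :
    ∀ (V : Type u) [AddCommGroup V] [Finite V] [DistribMulAction A V], Nat.card V ≤ n → CR A V → P V := by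
  suffices h : ∀ (k : ℕ) (V : Type u) [AddCommGroup V] [Finite V] [DistribMulAction A V],
      Nat.card V = k → k ≤ n → CR A V → P V by
    intro V _ _ _ hn hcr
    exact h _ V rfl hn hcr
  intro k
  induction k using Nat.strong_induction_on with
  | _ k ihk =>
  intro V _ _ _ hk hkn hcr
  by_cases hV : ∃ x : V, x ≠ 0
  swap
  · exact hzero V (by simpa using hV)
  by_cases hirr' : ∀ U : AddSubgroup V, Stable A V U → U = ⊥ ∨ U = ⊤
  · exact hirr V (hk ▸ hkn) ⟨hV, hirr'⟩
  push Not at hirr'
  obtain ⟨U, hU, hU0, hU1⟩ := hirr'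
  obtain ⟨W, hW, hUW, hsup⟩ := hcr U hU
  have hW1 : W ≠ ⊤ := fun h => hU0 (by rwa [h, inf_top_eq] at hUW)
  have hlt : ∀ S : AddSubgroup V, S ≠ ⊤ → Nat.card S < k := fun S hS => by
    rw [← hk]
    exact lt_of_le_of_ne (Nat.card_le_card_of_injective _ Subtype.val_injective) fun h =>
      hS (AddSubgroup.eq_top_of_card_eq _ h)
  let act : ∀ (S : AddSubgroup V), Stable A V S → DistribMulAction A S := fun S hS =>
    { smul := fun a x => ⟨a • (x : V), hS a x x.2⟩
      one_smul := fun x => Subtype.ext (one_smul A (x : V))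
      mul_smul := fun a b x => Subtype.ext (mul_smul a b (x : V))
      smul_zero := fun a => Subtype.ext (smul_zero a)
      smul_add := fun a x y => Subtype.ext (smul_add a (x : V) y) }
  have sub : ∀ (S : AddSubgroup V), S ≠ ⊤ → ∀ hS : Stable A V S, letI := act S hS; P S := fun S hS1 hS => by
    letI := act S hS
    refine ihk _ (hlt S hS1) S rfl ((hlt S hS1).le.trans hkn) fun T hT => ?_
    obtain ⟨X, hX, h1, h2⟩ := hcr (T.map S.subtype) (by
      rintro a _ ⟨t, ht, rfl⟩
      exact ⟨a • t, hT a t ht, rfl⟩)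
    refine ⟨X.comap S.subtype, fun a x hx => hX a x hx, ?_, ?_⟩
    · rw [eq_bot_iff]
      intro x hx
      exact Subtype.ext (AddSubgroup.mem_bot.mp (h1.le (show (x : V) ∈ T.map S.subtype ⊓ X from
        ⟨⟨x, hx.1, rfl⟩, hx.2⟩)))
    · rw [eq_top_iff]
      intro x _
      obtain ⟨_, ⟨t, ht, rfl⟩, y, hy, e⟩ := AddSubgroup.mem_sup.mp (h2.ge (AddSubgroup.mem_top (x : V)))
      refine AddSubgroup.mem_sup.mpr ⟨t, ht, x - t, ?_, add_sub_cancel t x⟩
      show (x : V) - (t : V) ∈ X
      rw [← e, AddSubgroup.coe_subtype, add_sub_cancel_left]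
      exact hy
  letI := act U hU
  letI := act W hW
  let g : U × W →+ V := AddMonoidHom.coprod U.subtype W.subtype
  have hg : ∀ p : U × W, g p = (p.1 : V) + p.2 := fun p => rfl
  have hbij : Function.Bijective g := by
    refine ⟨(injective_iff_map_eq_zero g).mpr fun p hp => ?_, fun x => ?_⟩
    · rw [hg] at hp
      have h1 : (p.1 : V) = -(p.2 : V) := eq_neg_of_add_eq_zero_left hp
      have hW' : (p.1 : V) ∈ W := by rw [h1]; exact W.neg_mem p.2.2
      have h2 : (p.1 : V) = 0 := AddSubgroup.mem_bot.mp (hUW.le ⟨p.1.2, hW'⟩)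
      rw [h2, zero_add] at hp
      exact Prod.ext (Subtype.ext h2) (Subtype.ext hp)
    · obtain ⟨s, hs, t, ht, rfl⟩ := AddSubgroup.mem_sup.mp (hsup.ge (AddSubgroup.mem_top x))
      exact ⟨(⟨s, hs⟩, ⟨t, ht⟩), rfl⟩
  refine hsum V U W (AddEquiv.ofBijective g hbij) (fun a p => ?_) (sub U hU1 hU) (sub W hW1 hW)
  show g _ = a • g p
  rw [hg, hg, smul_add]
  rfl

/-- A non-trivial irreducible module has prime exponent. -/
theorem exists_char {V : Type u} [AddCommGroup V] [Finite V] [DistribMulAction A V] (h : Irr A V) :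
    ∃ p : ℕ, p.Prime ∧ ∀ x : V, p • x = 0 := by
  haveI : Nontrivial V := ⟨⟨_, 0, h.1.choose_spec⟩⟩
  obtain ⟨p, hp, hd⟩ := Nat.exists_prime_and_dvd (n := Nat.card V) Finite.one_lt_card.ne'
  haveI := Fact.mk hp
  obtain ⟨x, hx⟩ := exists_prime_addOrderOf_dvd_card' p hd
  let U : AddSubgroup V := (DistribSMul.toAddMonoidHom V p).ker
  rcases h.2 U (fun a y (hy : p • y = 0) => show p • a • y = 0 by rw [smul_comm, hy, smul_zero]) with e | e
  · have hxU : x ∈ U := show p • x = 0 from hx ▸ addOrderOf_nsmul_eq_zero x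
    rw [e, AddSubgroup.mem_bot] at hxU
    rw [hxU, addOrderOf_zero] at hx
    exact absurd hx.symm hp.ne_one
  · exact ⟨p, hp, fun y => e.ge (AddSubgroup.mem_top y)⟩

end

end CfsgLib.VecStab
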