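import Cfsg.Agent.Lib.VecStab.Perm

/-!
Systems of imprimitivity given by projections, and stabilizers of vectors glued from block vectors.
-/

set_option autoImplicit false
set_option linter.style.haveILetI false
set_option linter.unusedSectionVars false

namespace CfsgLib.VecStab

open MulAction CfsgLib.OddBase
open scoped commutatorElement

universe u

/-- Orthogonal projections permuted by the group. -/
structure Sys (A V ι : Type u) [Group A] [AddCommGroup V] [DistribMulAction A V] [MulAction A ι] [Fintype ι] where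
  e : ι → AddMonoid.End V
  orth : ∀ i j, i ≠ j → ∀ x, e i (e j x) = 0
  idem : ∀ i x, e i (e i x) = e i x
  sum : ∀ x, ∑ i, e i x = x
  smul : ∀ (a : A) i x, e (a • i) (a • x) = a • e i x
  ne : ∀ i, ∃ x, e i x ≠ 0

variable {A V ι : Type u} [Group A] [AddCommGroup V] [DistribMulAction A V] [MulAction A ι] [Fintype ι]

/-- The block module. -/
def Sys.blk (S : Sys A V ι) (i : ι) : AddSubgroup V where
  carrier := {x | S.e i x = x}
  zero_mem' := map_zero (S.e i)
  add_mem' {x y} hx hy := by
    show S.e i (x + y) = x + y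
    rw [map_add, show S.e i x = x from hx, show S.e i y = y from hy]
  neg_mem' {x} hx := by
    show S.e i (-x) = -x
    rw [map_neg, show S.e i x = x from hx]

theorem Sys.smul_mem (S : Sys A V ι) {i : ι} (a : stabilizer A i) {x : V} (hx : x ∈ S.blk i) :
    (a : A) • x ∈ S.blk i := by
  show S.e i ((a : A) • x) = (a : A) • x
  have h := S.smul (a : A) i x
  rw [mem_stabilizer_iff.mp a.2, show S.e i x = x from hx] at h
  exact h

/-- The stabilizer of a block acts on its module. -/
@[reducible] def Sys.act (S : Sys A V ι) (i : ι) : DistribMulAction (stabilizer A i) (S.blk i) where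
  smul a x := ⟨(a : A) • (x : V), S.smul_mem a x.2⟩
  one_smul x := Subtype.ext (one_smul A (x : V))
  mul_smul a b x := Subtype.ext (mul_smul (a : A) b (x : V))
  smul_zero a := Subtype.ext (smul_zero (a : A))
  smul_add a x y := Subtype.ext (smul_add (a : A) (x : V) y)

/-- The sum over the fibres of an equivariant map is a system. -/
theorem Sys.push (S : Sys A V ι) {β : Type u} [MulAction A β] [Fintype β] (π : ι → β)
    (hπ : ∀ (a : A) i, π (a • i) = a • π i) (hsurj : Function.Surjective π) : Nonempty (Sys A V β) := by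
  classical
  let e : β → AddMonoid.End V := fun b =>
    (∑ i ∈ Finset.univ.filter (fun i => π i = b), (S.e i : V →+ V) : V →+ V)
  have he : ∀ b x, e b x = ∑ i ∈ Finset.univ.filter (fun i => π i = b), S.e i x := fun b x =>
    AddMonoidHom.finsetSum_apply _ _ _
  have hin : ∀ b i x, π i = b → S.e i (e b x) = S.e i x := fun b i x hi => by
    rw [he, map_sum, Finset.sum_eq_single i (fun j _ hj => S.orth i j (Ne.symm hj) x)
      (fun h => (h (Finset.mem_filter.mpr ⟨Finset.mem_univ i, hi⟩)).elim), S.idem]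
  have hout : ∀ b i x, π i ≠ b → S.e i (e b x) = 0 := fun b i x hi => by
    rw [he, map_sum]
    exact Finset.sum_eq_zero fun j hj => S.orth i j (fun h => hi (h ▸ (Finset.mem_filter.mp hj).2)) x
  refine ⟨⟨e, fun b c hbc x => ?_, fun b x => ?_, fun x => ?_, fun a b x => ?_, fun b => ?_⟩⟩
  · rw [he b]
    exact Finset.sum_eq_zero fun i hi => hout c i x (by rw [(Finset.mem_filter.mp hi).2]; exact hbc)
  · rw [he b, he b x]
    exact Finset.sum_congr rfl fun i hi => (congrArg (S.e i) (he b x)).symm.trans (hin b i x (Finset.mem_filter.mp hi).2)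
  · rw [Finset.sum_congr rfl fun b _ => he b x, Finset.sum_fiberwise Finset.univ π fun i => S.e i x]
    exact S.sum x
  · rw [he, he, Finset.smul_sum]
    refine Finset.sum_equiv (MulAction.toPerm a⁻¹) (fun i => ?_) fun i hi => ?_
    · simp only [Finset.mem_filter, Finset.mem_univ, true_and, MulAction.toPerm_apply, hπ, inv_smul_eq_iff]
    · rw [MulAction.toPerm_apply, ← S.smul, smul_inv_smul]
  · obtain ⟨i, rfl⟩ := hsurj b
    obtain ⟨x, hx⟩ := S.ne i
    refine ⟨x, fun h => hx ?_⟩
    rw [← hin (π i) i x rfl, h, map_zero]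

section Irr
variable [Finite V]

/-- For an irreducible module the projections are permuted transitively. -/
theorem Sys.pretransitive (S : Sys A V ι) (hirr : Irr A V) : IsPretransitive A ι := by
  classical
  have key : ∀ e f : ι, f ∈ orbit A e := fun e f => by
    by_contra hf
    let U : AddSubgroup V := ⨅ g ∈ {g : ι | g ∉ orbit A e}, (AddMonoidHom.ker (S.e g : V →+ V))
    have hU : ∀ x, x ∈ U ↔ ∀ g : ι, g ∉ orbit A e → S.e g x = 0 := fun x => by
      simp only [U, AddSubgroup.mem_iInf]
      exact ⟨fun h g hg => h g hg, fun h g hg => h g hg⟩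
    rcases hirr.2 U (fun a x hx => (hU _).mpr fun g hg => by
      rw [← smul_inv_smul a g, S.smul, (hU x).mp hx _ (fun h => hg (by
        rw [← smul_inv_smul a g, ← orbit_eq_iff, orbit_smul, orbit_eq_iff]; exact h)), smul_zero]) with h | h
    · obtain ⟨x, hx⟩ := S.ne e
      refine hx ?_
      have h2 : S.e e x ∈ U := (hU _).mpr fun g hg => S.orth g e (fun h' => hg (by rw [h']; exact mem_orbit_self e)) x
      rw [h, AddSubgroup.mem_bot] at h2
      exact h2
    · obtain ⟨x, hx⟩ := S.ne f
      exact hx ((hU x).mp (h.ge trivial) f hf)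
  refine ⟨fun f g => ?_⟩
  obtain ⟨a, ha⟩ := key f g
  exact ⟨a, ha⟩

theorem Sys.blk_irr (S : Sys A V ι) (hirr : Irr A V) (i : ι) :
    letI := S.act i
    Irr (stabilizer A i) (S.blk i) := by
  classical
  letI := S.act i
  obtain ⟨x₀, hx₀⟩ := S.ne i
  refine ⟨⟨⟨S.e i x₀, S.idem i x₀⟩, fun h => hx₀ (congrArg Subtype.val h)⟩, fun U hU => ?_⟩
  by_cases hU0 : U = ⊥
  · exact Or.inl hU0
  refine Or.inr (eq_top_iff.mpr fun x _ => ?_)
  let T : AddSubgroup V := AddSubgroup.closure {y | ∃ (a : A) (u : S.blk i), u ∈ U ∧ y = a • (u : V)}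
  rcases hirr.2 T (fun a y hy => by
    induction hy using AddSubgroup.closure_induction with
    | mem z hz =>
      obtain ⟨b, u, hu, rfl⟩ := hz
      exact AddSubgroup.subset_closure ⟨a * b, u, hu, (mul_smul a b _).symm⟩
    | zero => rw [smul_zero]; exact zero_mem _
    | add y z _ _ h1 h2 => rw [smul_add]; exact add_mem h1 h2
    | neg y _ h1 => rw [smul_neg]; exact neg_mem h1) with h | h
  · exfalso
    refine hU0 (eq_bot_iff.mpr fun u hu => Subtype.ext ?_)
    have h2 : (u : V) ∈ T := AddSubgroup.subset_closure ⟨1, u, hu, (one_smul A _).symm⟩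
    rw [h, AddSubgroup.mem_bot] at h2
    exact h2
  · have key : ∀ y ∈ T, ∃ u ∈ U, (u : V) = S.e i y := fun y hy => by
      induction hy using AddSubgroup.closure_induction with
      | mem z hz =>
        obtain ⟨b, u, hu, rfl⟩ := hz
        by_cases hb : b • i = i
        · exact ⟨(⟨b, hb⟩ : stabilizer A i) • u, hU _ u hu, (S.smul_mem ⟨b, hb⟩ u.2).symm⟩
        · refine ⟨0, zero_mem _, ?_⟩
          have h2 : S.e (b • i) (b • (u : V)) = b • (u : V) := by rw [S.smul]; exact congrArg (b • ·) u.2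
          rw [← h2, S.orth i _ (Ne.symm hb)]
          rfl
      | zero => exact ⟨0, zero_mem _, (map_zero _).symm⟩
      | add y z _ _ h1 h2 =>
        obtain ⟨u, hu, h1⟩ := h1
        obtain ⟨v, hv, h2⟩ := h2
        exact ⟨u + v, add_mem hu hv, by rw [map_add, ← h1, ← h2]; rfl⟩
      | neg y _ h1 =>
        obtain ⟨u, hu, h1⟩ := h1
        exact ⟨-u, neg_mem hu, by rw [map_neg, ← h1]; rfl⟩
    obtain ⟨u, hu, hux⟩ := key x (h.ge trivial)
    exact (Subtype.ext (hux.trans x.2) : u = x) ▸ hu

/-- A field, or a minimal system of imprimitivity. -/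
theorem field_or_sys [Finite A] (hfaith : FaithfulSMul A V) (hirr : Irr A V) :
    (∃ Z : Subgroup A, Setup A V Z) ∨
      ∃ (ι : Type u) (_ : MulAction A ι) (_ : Fintype ι) (_ : Sys A V ι),
        IsPretransitive A ι ∧ Nontrivial ι ∧ PrimLike A ι := by
  classical
  haveI : WellFoundedGT (Subgroup A) := inferInstance
  obtain ⟨Z, ⟨hZn, hZc⟩, hmax⟩ := (wellFounded_gt : WellFounded (α := Subgroup A) (· > ·)).has_min
    {N | N.Normal ∧ ∀ x ∈ N, ∀ y ∈ N, x * y = y * x}
    ⟨⊥, inferInstance, fun x hx y hy => by rw [Subgroup.mem_bot.mp hx, Subgroup.mem_bot.mp hy]⟩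
  haveI := hZn
  have hR := invRing_genRing (V := V) hZc
  by_cases hid : ∀ e ∈ genRing (V := V) Z, e * e = e → e = 0 ∨ e = 1
  · exact Or.inl ⟨Z, hfaith, hZn, hZc, isField_of_no_idem hirr hR hid,
      fun L hL hLc hle => by_contra fun hne => hmax L ⟨hL, hLc⟩ (lt_of_le_of_ne hle (Ne.symm hne))⟩
  refine Or.inr ?_
  push Not at hid
  obtain ⟨e₁, he₁, hee, h0, h1⟩ := hid
  suffices hex : ∃ n, ∃ (ι : Type u) (_ : MulAction A ι) (_ : Fintype ι) (_ : Sys A V ι),
      1 < Nat.card ι ∧ Nat.card ι = n by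
    obtain ⟨ι, _, _, S, hι, hn⟩ := Nat.find_spec hex
    haveI := S.pretransitive hirr
    refine ⟨ι, ‹_›, ‹_›, S, inferInstance, Finite.one_lt_card_iff_nontrivial.mp hι, fun β _ π hπ hsurj => ?_⟩
    by_contra hc
    push Not at hc
    haveI : Finite β := Finite.of_surjective _ hsurj
    haveI := Fintype.ofFinite β
    obtain ⟨S'⟩ := S.push π hπ hsurj
    have := Nat.find_min' hex ⟨β, ‹_›, ‹_›, S', hc.2, rfl⟩
    have := Nat.card_le_card_of_surjective π hsurj
    omega
  letI : MulAction A (Atom (genRing (V := V) Z)) :=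
    { smul := fun a e => ⟨rho a * e.1 * rho a⁻¹, hR.atom_conj a e.2⟩
      one_smul := fun e => Subtype.ext (show rho (1 : A) * e.1 * rho (1 : A)⁻¹ = e.1 by simp)
      mul_smul := fun a b e => Subtype.ext (conj_conj a b e.1).symm }
  haveI : Fintype (Atom (genRing (V := V) Z)) := Fintype.ofFinite _
  let S : Sys A V (Atom (genRing (V := V) Z)) :=
    { e := fun f => f.1
      orth := fun f g h x => DFunLike.congr_fun (atom_orth hR.comm h) x
      idem := fun f x => DFunLike.congr_fun f.2.2.2.1 x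
      sum := fun x => (map_sum (AddMonoidHom.eval x : (V →+ V) →+ V)
        (fun f : Atom (genRing (V := V) Z) => (f.1 : V →+ V)) Finset.univ).symm.trans
        (DFunLike.congr_fun (sum_atoms hR.comm) x)
      smul := fun a f x => by
        show a • (f.1 (a⁻¹ • a • x)) = _
        rw [inv_smul_smul]
      ne := fun f => by
        by_contra h
        push Not at h
        exact f.2.2.1 (DFunLike.ext _ _ h) }
  obtain ⟨a₀, ha₀, ha₀e⟩ := exists_atom hR.comm _ e₁ he₁ h0 hee le_rfl
  refine ⟨_, _, _, _, S, ?_, rfl⟩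
  by_contra hle
  haveI : Subsingleton (Atom (genRing (V := V) Z)) := Finite.card_le_one_iff_subsingleton.mp (not_lt.mp hle)
  let f : Atom (genRing (V := V) Z) := ⟨a₀, ha₀⟩
  have he1 : f.1 = 1 := by
    rw [← sum_atoms hR.comm, Finset.sum_eq_single f (fun g _ hg => absurd (Subsingleton.elim g f) hg) (by simp)]
  rcases f.2.2.2.2 e₁ he₁ hee (by rw [he1, mul_one]) with h | h
  · exact h0 h
  · exact h1 (h.trans he1)

end Irr

section Glue
variable [IsPretransitive A ι] (S : Sys A V ι) (i₀ : ι)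

/-- A transversal. -/
noncomputable def tr (i₀ : ι) (f : ι) : A := (exists_smul_eq A i₀ f).choose

theorem tr_smul (i₀ f : ι) : (tr i₀ f : A) • i₀ = f := (exists_smul_eq A i₀ f).choose_spec

/-- The glued vector. -/
noncomputable def Sys.glue (y : ι → S.blk i₀) : V := ∑ g, (tr i₀ g : A) • (y g : V)

theorem Sys.proj (y : ι → S.blk i₀) (f : ι) : S.e f (S.glue i₀ y) = (tr i₀ f : A) • (y f : V) := by
  classical
  have hg : ∀ g, S.e g ((tr i₀ g : A) • (y g : V)) = (tr i₀ g : A) • (y g : V) := fun g => by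
    have h := S.smul (tr i₀ g : A) i₀ (y g : V)
    rw [tr_smul, show S.e i₀ (y g : V) = y g from (y g).2] at h
    exact h
  rw [Sys.glue, map_sum, Finset.sum_eq_single f (fun g _ hg' => by rw [← hg g, S.orth f g (Ne.symm hg')])
    (by simp), hg]

/-- The part of an element in the stabilizer of the first block. -/
noncomputable def part (i₀ : ι) (a : A) (f : ι) : stabilizer A i₀ :=
  ⟨(tr i₀ (a • f) : A)⁻¹ * a * tr i₀ f, by
    rw [mem_stabilizer_iff, mul_smul, mul_smul, tr_smul, inv_smul_eq_iff, tr_smul]⟩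

theorem Sys.part_smul {a : A} {y y' : ι → S.blk i₀} (h : a • S.glue i₀ y = S.glue i₀ y') (f : ι) :
    letI := S.act i₀
    part i₀ a f • y f = y' (a • f) := by
  letI := S.act i₀
  refine Subtype.ext ?_
  show ((tr i₀ (a • f) : A)⁻¹ * a * tr i₀ f) • (y f : V) = _
  rw [mul_smul, mul_smul, inv_smul_eq_iff, ← S.proj i₀ y f, ← S.smul, h, S.proj]

/-- An element fixing a block moves its vectors as its part does. -/
theorem Sys.eq_of_part {a : A} {f : ι} (hf : a • f = f) {x : V}
    (h : letI := S.act i₀; ∀ w : S.blk i₀, part i₀ a f • w = w) : a • S.e f x = S.e f x := by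
  letI := S.act i₀
  have hk : (tr i₀ f : A)⁻¹ • S.e f x ∈ S.blk i₀ := by
    show S.e i₀ _ = _
    have h2 := S.smul (tr i₀ f : A) i₀ ((tr i₀ f : A)⁻¹ • S.e f x)
    rw [tr_smul, smul_inv_smul, S.idem] at h2
    rw [eq_inv_smul_iff]
    exact h2.symm
  have h3 := congrArg Subtype.val (h ⟨_, hk⟩)
  change ((tr i₀ (a • f) : A)⁻¹ * a * tr i₀ f) • (tr i₀ f : A)⁻¹ • S.e f x = (tr i₀ f : A)⁻¹ • S.e f x at h3
  rw [hf, mul_smul, mul_smul, smul_inv_smul] at h3
  exact smul_left_cancel _ h3

theorem Sys.fix_of_parts {a : A}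
    (h : letI := S.act i₀; ∀ f, a • f = f ∧ ∀ w : S.blk i₀, part i₀ a f • w = w) (x : V) : a • x = x := by
  rw [← S.sum x, Finset.smul_sum]
  exact Finset.sum_congr rfl fun f _ => S.eq_of_part i₀ (h f).1 (h f).2

/-- The parts on a fixed block, as a homomorphism. -/
noncomputable def partHom (i₀ f : ι) : stabilizer A f →* stabilizer A i₀ where
  toFun a := part i₀ (a : A) f
  map_one' := Subtype.ext (by
    show (tr i₀ ((1 : A) • f) : A)⁻¹ * 1 * tr i₀ f = 1
    rw [one_smul, mul_one, inv_mul_cancel])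
  map_mul' a b := Subtype.ext (by
    show (tr i₀ (((a : A) * b) • f) : A)⁻¹ * ((a : A) * b) * tr i₀ f =
      ((tr i₀ ((a : A) • f) : A)⁻¹ * a * tr i₀ f) * ((tr i₀ ((b : A) • f) : A)⁻¹ * b * tr i₀ f)
    rw [mul_smul, mem_stabilizer_iff.mp b.2, mem_stabilizer_iff.mp a.2]
    group)

/-- The derived length of the stabilizer of a glued vector. -/
theorem Sys.len_stab {D : ℕ} (y : ι → S.blk i₀)
    (h : ∀ f, ∃ k c, k + c ≤ D ∧ (∀ a ∈ ds (stabilizer A (S.glue i₀ y)) k, a • f = f) ∧
      (letI := S.act i₀; Len (S.blk i₀) c (stabilizer (stabilizer A i₀) (y f)))) :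
    Len V D (stabilizer A (S.glue i₀ y)) := by
  letI := S.act i₀
  intro a ha x
  refine S.fix_of_parts i₀ (fun f => ?_) x
  obtain ⟨k, c, hkc, hk, hc⟩ := h f
  have haK : a ∈ ds (ds (stabilizer A (S.glue i₀ y)) k) c := by
    rw [← ds_add]
    exact ds_anti _ hkc ha
  have hle : ds (stabilizer A (S.glue i₀ y)) k ≤ stabilizer A f := fun b hb => hk b hb
  have haf : a ∈ stabilizer A f := hle (ds_le _ _ haK)
  refine ⟨haf, fun w => ?_⟩
  refine hc _ (ds_map_sub hle (partHom i₀ f) (stabilizer (stabilizer A i₀) (y f)) (fun b hb => ?_) c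
    (a := ⟨a, haf⟩) haK) w
  show part i₀ (b : A) f • y f = y f
  have h2 := S.part_smul i₀ (mem_stabilizer_iff.mp (ds_le _ _ hb)) f
  rw [h2, mem_stabilizer_iff.mp b.2]

/-- The derived length of the whole group. -/
theorem Sys.len_top {k c : ℕ} (hk : Len ι k (⊤ : Subgroup A))
    (hc : letI := S.act i₀; Len (S.blk i₀) c (⊤ : Subgroup (stabilizer A i₀))) : Len V (k + c) (⊤ : Subgroup A) := by
  letI := S.act i₀
  have h := S.len_stab i₀ (fun _ => 0) (D := k + c) fun f => ⟨k, c, le_rfl,
    fun a ha => hk a (ds_mono le_top k ha) f, hc.mono le_top le_rfl⟩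
  refine h.mono (fun a _ => ?_) le_rfl
  rw [mem_stabilizer_iff, Sys.glue, Finset.smul_sum]
  simp

/-- Two glued vectors in one orbit have equivalent entries at corresponding blocks. -/
theorem Sys.colour_eq {k : Type*} (w : k → S.blk i₀)
    (hw : letI := S.act i₀; ∀ i j (h : stabilizer A i₀), h • w i = w j → i = j)
    {a : A} {c c' : ι → k} (h : a • S.glue i₀ (w ∘ c) = S.glue i₀ (w ∘ c')) (f : ι) : c' (a • f) = c f := by
  letI := S.act i₀
  exact (hw _ _ _ (S.part_smul i₀ h f)).symm

/-- The order of the module. -/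
theorem Sys.card_eq [Finite V] : Nat.card V = Nat.card (S.blk i₀) ^ Nat.card ι := by
  classical
  let g : (ι → S.blk i₀) → V := fun y => S.glue i₀ y
  have hbij : Function.Bijective g := by
    refine ⟨fun y y' h => funext fun f => Subtype.ext ?_, fun x => ?_⟩
    · have h2 := congrArg (S.e f) h
      rw [S.proj, S.proj] at h2
      exact smul_left_cancel _ h2
    · refine ⟨fun f => ⟨(tr i₀ f : A)⁻¹ • S.e f x, ?_⟩, ?_⟩
      · show S.e i₀ _ = _
        have h2 := S.smul (tr i₀ f : A) i₀ ((tr i₀ f : A)⁻¹ • S.e f x)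
        rw [tr_smul, smul_inv_smul, S.idem] at h2
        rw [eq_inv_smul_iff]
        exact h2.symm
      · show S.glue i₀ _ = x
        rw [Sys.glue, Finset.sum_congr rfl fun f _ => smul_inv_smul (tr i₀ f : A) (S.e f x), S.sum]
  rw [← Nat.card_eq_of_bijective g hbij, Nat.card_fun, Nat.card_eq_fintype_card (α := ι)]

end Glue

end CfsgLib.VecStab
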