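import Cfsg.Agent.Lib.VecStab.Prim

/-!
A table for the derived lengths of completely reducible solvable groups on small modules.
-/

set_option autoImplicit false
set_option linter.style.haveILetI false
set_option linter.unusedSectionVars false

namespace CfsgLib.VecStab

open MulAction CfsgLib.OddBase
open scoped commutatorElement

universe u

/-- The image of an irreducible action. -/
theorem image_irr {A V : Type u} [Group A] [Finite A] [AddCommGroup V] [Finite V] [DistribMulAction A V]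
    [Group.IsSolvable A] (hirr : Irr A V) :
    ∃ (G : Type u) (_ : Group G) (_ : Finite G) (_ : DistribMulAction G V) (f : A →* G), Function.Surjective f ∧
      (∀ (a : A) (x : V), f a • x = a • x) ∧ FaithfulSMul G V ∧ Group.IsSolvable G ∧ Irr G V := by
  let G : Subgroup (Equiv.Perm V) := (MulAction.toPermHom A V).range
  have hmem : ∀ g : G, ∃ a : A, ∀ x : V, (g : Equiv.Perm V) x = a • x := fun g => by
    obtain ⟨a, ha⟩ := g.2
    exact ⟨a, fun x => by rw [← ha]; rfl⟩
  letI : DistribMulAction G V :=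
    { smul := fun g x => (g : Equiv.Perm V) x
      one_smul := fun x => rfl
      mul_smul := fun g h x => rfl
      smul_zero := fun g => by
        obtain ⟨a, ha⟩ := hmem g
        exact (ha 0).trans (smul_zero a)
      smul_add := fun g x y => by
        obtain ⟨a, ha⟩ := hmem g
        show (g : Equiv.Perm V) (x + y) = (g : Equiv.Perm V) x + (g : Equiv.Perm V) y
        rw [ha, ha, ha, smul_add] }
  have hsurj := (MulAction.toPermHom A V).rangeRestrict_surjective
  exact ⟨G, inferInstance, inferInstance, inferInstance, _, hsurj, fun a x => rfl, ⟨fun h => Subtype.ext (Equiv.ext h)⟩,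
    Group.isSolvable_of_surjective hsurj, hirr.1, fun U hU => hirr.2 U fun a x hx => hU ⟨_, a, rfl⟩ x hx⟩

theorem len_of_image {A G V : Type u} [Group A] [Group G] [MulAction A V] [MulAction G V] (f : A →* G)
    (hf : ∀ (a : A) (x : V), f a • x = a • x) {n : ℕ} {K : Subgroup A} {M : Subgroup G} (hKM : K.map f ≤ M)
    (h : Len V n M) : Len V n K := fun a ha x => by
  have h1 : f a ∈ ds (K.map f) n := by rw [← ds_map]; exact ⟨a, ha, rfl⟩
  rw [← hf]
  exact h _ (ds_mono hKM n h1) x

theorem map_stabilizer_le {A G V : Type u} [Group A] [Group G] [MulAction A V] [MulAction G V] (f : A →* G)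
    (hf : ∀ (a : A) (x : V), f a • x = a • x) (v : V) : (stabilizer A v).map f ≤ stabilizer G v := by
  rintro _ ⟨a, ha, rfl⟩
  rw [mem_stabilizer_iff, hf]
  exact ha

theorem linLe_two : LinLe.{u} 2 0 := by
  intro M hM A V _ _ _ _ _ _ hV _ a _ x
  by_contra hne
  have hx : x ≠ 0 := fun h => hne (by rw [h, smul_zero])
  have hax : a • x ≠ 0 := fun h => hx ((smul_eq_zero_iff_eq a).mp h)
  classical
  haveI := Fintype.ofFinite V
  have h3 : ({0, x, a • x} : Finset V).card = 3 := Finset.card_eq_three.mpr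
    ⟨0, x, a • x, Ne.symm hx, Ne.symm hax, Ne.symm hne, rfl⟩
  have := Finset.card_le_univ ({0, x, a • x} : Finset V)
  rw [h3, ← Nat.card_eq_fintype_card, hV] at this
  omega

theorem linEq_prime {p : ℕ} (hp : p.Prime) : LinEq.{u} p 1 := by
  intro A V _ _ _ _ _ _ hV _
  haveI := Fact.mk hp
  haveI : Nontrivial V := Finite.one_lt_card_iff_nontrivial.mp (hV ▸ hp.one_lt)
  obtain ⟨g, hg⟩ := exists_ne (0 : V)
  have hgen : ∀ x : V, ∃ i : ℤ, i • g = x := fun x =>
    AddSubgroup.mem_zmultiples_iff.mp ((zmultiples_eq_top_of_prime_card hV hg).ge (AddSubgroup.mem_top x))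
  have hsm : ∀ (a : A) (i : ℤ) (x : V), a • (i • x) = i • (a • x) := fun a i x =>
    map_zsmul (DistribSMul.toAddMonoidHom V a) i x
  refine Comm.len fun a _ b _ x => ?_
  obtain ⟨k, rfl⟩ := hgen x
  obtain ⟨i, hi⟩ := hgen (a • g)
  obtain ⟨j, hj⟩ := hgen (b • g)
  simp only [hsm, ← hi, ← hj]
  simp only [smul_smul]
  ring_nf

theorem linLe_three : LinLe.{u} 3 1 := fun M hM => by
  rcases Nat.lt_or_ge M 3 with h | h
  · exact fun A V _ _ _ _ _ hs hV hcr => (linLe_two M (by omega) A V hs hV hcr).mono le_rfl (Nat.zero_le _)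
  · exact (show M = 3 by omega) ▸ linEq_prime Nat.prime_three

/-- The recursion for linear groups. -/
theorem linLe_of {N D : ℕ} (hD : 2 ≤ D)
    (hprim : ∀ e Q, 2 ≤ e → 3 ≤ Q → (∀ s : ℕ, s.Prime → s ∣ e → s < Q) → Q ^ e ≤ N →
      ∃ g, 1 ≤ g ∧ g + 2 ≤ D ∧ LinEq.{u} (e * e) g)
    (hblock : ∀ w m, 2 ≤ w → 2 ≤ m → w ^ m ≤ N → ∃ x y, y + x ≤ D ∧ PermLe.{u} m y ∧ LinEq.{u} w x) :
    LinLe.{u} N D := by
  intro M hM A V _ _ _ _ _ hsol hV hcr
  subst hV
  refine cr_rec (A := A) (fun U _ _ => Len U D (⊤ : Subgroup A)) N ?_ ?_ ?_ V hM hcr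
  · exact fun U _ _ _ h a _ x => by rw [h x, smul_zero]
  · intro U _ _ _ hU hirr
    haveI := hsol
    obtain ⟨G, _, _, _, f, hf, hfx, hfaith, hsolG, hirrG⟩ := image_irr hirr
    refine len_of_image f hfx (M := ⊤) le_top ?_
    rcases field_or_sys hfaith hirrG with ⟨Z, h⟩ | ⟨ι, _, _, S, htr, hnt, -⟩
    · rcases trivial_or_frame h with hCZ | ⟨F, L, hfr, he, hQ, hVQ⟩
      · exact (len_trivial h hCZ).1.mono le_rfl hD
      · obtain ⟨g, hg, hgD, hlin⟩ := hprim _ _ he hQ (fun s hs hd => by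
          obtain ⟨z, hz, hzo⟩ := hfr.prime_dvd hs (by rw [hfr.sq_index]; exact dvd_mul_of_dvd_left hd _)
          have h1 : s ≤ Nat.card Z := by
            rw [← hzo, ← Subgroup.orderOf_mk z hz]
            exact Nat.le_of_dvd Nat.card_pos (orderOf_dvd_natCard _)
          exact h1.trans_lt (card_lt_field h)) (hVQ.trans hU)
        exact (len_field hfr hg hlin).1.mono le_rfl hgD
    · obtain ⟨i₀⟩ : Nonempty ι := hnt.to_nonempty
      letI := S.act i₀
      have hW := S.blk_irr hirrG i₀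
      have hc := S.card_eq i₀
      have hw : 2 ≤ Nat.card (S.blk i₀) := by
        haveI : Nontrivial (S.blk i₀) := ⟨⟨_, 0, hW.1.choose_spec⟩⟩
        exact Finite.one_lt_card
      obtain ⟨x, y, hxy, hy, hx⟩ := hblock _ _ hw Finite.one_lt_card (hc ▸ hU)
      exact (S.len_top i₀ (hy G ι hsolG le_rfl) (hx _ _ inferInstance rfl hW.cr)).mono le_rfl hxy
  · intro U X Y _ _ _ _ _ _ _ _ _ g hg hX hY a ha u
    obtain ⟨⟨p, q⟩, rfl⟩ := g.surjective u
    rw [← hg, hX a ha p, hY a ha q]

theorem exp_bound {Q e N k : ℕ} (hQ : 3 ≤ Q) (h : Q ^ e ≤ N) (hN : N < 3 ^ (k + 1)) : e ≤ k := by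
  by_contra hc
  have := (Nat.pow_le_pow_right (by norm_num : 0 < 3) (by omega : k + 1 ≤ e)).trans
    ((Nat.pow_le_pow_left hQ e).trans h)
  omega

theorem block_bound {w m a b N : ℕ} (ha : 0 < a) (hw : a ≤ w) (h : w ^ m ≤ N) (hN : N < a ^ (b + 1)) : m ≤ b := by
  by_contra hc
  have := (Nat.pow_le_pow_right ha (by omega : b + 1 ≤ m)).trans ((Nat.pow_le_pow_left hw m).trans h)
  omega

theorem LinLe.to_eq {N D D' M : ℕ} (h : LinLe.{u} N D) (hM : M ≤ N) (hD : D ≤ D') : LinEq.{u} M D' :=
  fun A V _ _ _ _ _ hs hV hcr => (h M hM A V hs hV hcr).mono le_rfl hD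

theorem permLe_two : PermLe.{u} 2 1 :=
  permLe_of (fun k _ hk => ⟨0, by omega, linLe_two k hk⟩) fun a b ha hb h => by nlinarith

theorem permLe_three : PermLe.{u} 3 2 :=
  permLe_of (fun k _ hk => ⟨1, le_rfl, linLe_three k hk⟩) fun a b ha hb h => by nlinarith

theorem linLe_eight : LinLe.{u} 8 2 := by
  refine linLe_of le_rfl (fun e Q he hQ _ h => ?_) fun w m hw hm h => ?_
  · have := exp_bound (k := 1) hQ h (by norm_num)
    omega
  · have h2 : w ≤ 2 := by
      by_contra hc
      have := block_bound (a := 3) (b := 1) (by norm_num) (by omega) h (by norm_num)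
      omega
    exact ⟨0, 2, le_rfl, permLe_three.mono (block_bound (a := 2) (b := 3) (by norm_num) hw h (by norm_num)) le_rfl,
      linLe_two w h2⟩

theorem permLe_seven : PermLe.{u} 7 3 := by
  refine permLe_of (fun k _ hk => ⟨2, le_rfl, linLe_eight k (by omega)⟩) fun a b ha hb h => ?_
  have hb3 : b ≤ 3 := by nlinarith
  have ha3 : a ≤ 3 := by nlinarith
  rcases Nat.lt_or_ge a 3 with h3 | h3
  · exact ⟨1, 2, le_rfl, permLe_two.mono (by omega) le_rfl, permLe_three.mono hb3 le_rfl⟩
  · exact ⟨2, 1, le_rfl, permLe_three.mono ha3 le_rfl, permLe_two.mono (by nlinarith) le_rfl⟩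

theorem linLe_63 : LinLe.{u} 63 4 := by
  refine linLe_of (by norm_num) (fun e Q he hQ hs h => ?_) fun w m hw hm h => ?_
  · have h3 := exp_bound (k := 3) hQ h (by norm_num)
    have h2 : e ≤ 2 := by
      by_contra hc
      obtain rfl : e = 3 := by omega
      have h4 := hs 3 Nat.prime_three dvd_rfl
      have := (Nat.pow_le_pow_left h4 3).trans h
      norm_num at this
    exact ⟨2, by norm_num, le_rfl, linLe_eight _ (by nlinarith)⟩
  · rcases (show w ≤ 2 ∨ w = 3 ∨ (4 ≤ w ∧ w ≤ 7) ∨ 8 ≤ w by omega) with h2 | h3 | h4 | h8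
    · exact ⟨0, 3, by norm_num, permLe_seven.mono (by
        have := block_bound (a := 2) (b := 5) (by norm_num) hw h (by norm_num)
        omega) le_rfl, linLe_two w h2⟩
    · exact ⟨1, 2, by norm_num, permLe_three.mono
        (block_bound (a := 3) (b := 3) (by norm_num) h3.ge h (by norm_num)) le_rfl, linLe_three w h3.le⟩
    · exact ⟨2, 1, by norm_num, permLe_two.mono
        (block_bound (a := 4) (b := 2) (by norm_num) h4.1 h (by norm_num)) le_rfl, linLe_eight w (by omega)⟩
    · have := block_bound (a := 8) (b := 1) (by norm_num) h8 h (by norm_num)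
      omega

theorem permLe_fifteen : PermLe.{u} 15 5 := by
  refine permLe_of (fun k _ hk => ⟨4, le_rfl, linLe_63 k (by omega)⟩) fun a b ha hb h => ?_
  rcases (show a = 2 ∨ a = 3 ∨ 4 ≤ a by omega) with rfl | rfl | h4
  · exact ⟨1, 3, by norm_num, permLe_two, permLe_seven.mono (by omega) le_rfl⟩
  · exact ⟨2, 3, le_rfl, permLe_three, permLe_seven.mono (by omega) le_rfl⟩
  · exact ⟨3, 2, le_rfl, permLe_seven.mono (by nlinarith) le_rfl, permLe_three.mono (by nlinarith) le_rfl⟩

theorem linLe_4095 : LinLe.{u} 4095 6 := by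
  refine linLe_of (by norm_num) (fun e Q he hQ hs h => ?_) fun w m hw hm h => ?_
  · have h7 := exp_bound (k := 7) hQ h (by norm_num)
    exact ⟨4, by norm_num, le_rfl, linLe_63 _ ((Nat.mul_le_mul h7 h7).trans (by norm_num))⟩
  · rcases (show w ≤ 2 ∨ w = 3 ∨ (4 ≤ w ∧ w ≤ 8) ∨ (9 ≤ w ∧ w ≤ 63) ∨ 64 ≤ w by omega) with h2 | h3 | h4 | h9 | h64
    · exact ⟨0, 5, by norm_num, permLe_fifteen.mono (by
        have := block_bound (a := 2) (b := 11) (by norm_num) hw h (by norm_num)
        omega) le_rfl, linLe_two w h2⟩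
    · exact ⟨1, 3, by norm_num, permLe_seven.mono
        (block_bound (a := 3) (b := 7) (by norm_num) h3.ge h (by norm_num)) le_rfl, linLe_three w h3.le⟩
    · exact ⟨2, 3, by norm_num, permLe_seven.mono (by
        have := block_bound (a := 4) (b := 5) (by norm_num) h4.1 h (by norm_num)
        omega) le_rfl, linLe_eight w h4.2⟩
    · exact ⟨4, 2, le_rfl, permLe_three.mono
        (block_bound (a := 9) (b := 3) (by norm_num) h9.1 h (by norm_num)) le_rfl, linLe_63 w h9.2⟩
    · have := block_bound (a := 64) (b := 1) (by norm_num) h64 h (by norm_num)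
      omega

theorem linLe_65535 : LinLe.{u} 65535 8 := by
  refine linLe_of (by norm_num) (fun e Q he hQ hs h => ?_) fun w m hw hm h => ?_
  · have h10 := exp_bound (k := 10) hQ h (by norm_num)
    exact ⟨6, by norm_num, le_rfl, linLe_4095 _ ((Nat.mul_le_mul h10 h10).trans (by norm_num))⟩
  · rcases (show w ≤ 2 ∨ w = 3 ∨ (4 ≤ w ∧ w ≤ 8) ∨ (9 ≤ w ∧ w ≤ 63) ∨ (64 ≤ w ∧ w ≤ 4095) ∨ 4096 ≤ w by omega)
      with h2 | h3 | h4 | h9 | h64 | hbig
    · exact ⟨0, 5, by norm_num, permLe_fifteen.mono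
        (block_bound (a := 2) (b := 15) (by norm_num) hw h (by norm_num)) le_rfl, linLe_two w h2⟩
    · exact ⟨1, 5, by norm_num, permLe_fifteen.mono (by
        have := block_bound (a := 3) (b := 10) (by norm_num) h3.ge h (by norm_num)
        omega) le_rfl, linLe_three w h3.le⟩
    · exact ⟨2, 3, by norm_num, permLe_seven.mono
        (block_bound (a := 4) (b := 7) (by norm_num) h4.1 h (by norm_num)) le_rfl, linLe_eight w h4.2⟩
    · exact ⟨4, 3, by norm_num, permLe_seven.mono (by
        have := block_bound (a := 9) (b := 5) (by norm_num) h9.1 h (by norm_num)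
        omega) le_rfl, linLe_63 w h9.2⟩
    · exact ⟨6, 1, by norm_num, permLe_two.mono
        (block_bound (a := 64) (b := 2) (by norm_num) h64.1 h (by norm_num)) le_rfl, linLe_4095 w h64.2⟩
    · have := block_bound (a := 4096) (b := 1) (by norm_num) hbig h (by norm_num)
      omega

end CfsgLib.VecStab
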